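/-
The transpositions of the presented group on nine generators, named by the points of its action.
-/
import Cfsg.Agent.Lib.Spor.Fi22.Final

set_option autoImplicit false

namespace CfsgLib.Spor.Fi22Out

open CfsgLib.Spor.TC CfsgLib.Spor.Fi22 MulAction

noncomputable section

/-- The group. -/
abbrev Gp : Type := Pres ActH.act.k relsG

/-- The points. -/
abbrev Pt : Type := Fin ActH.act.n

attribute [local instance] actionH

/-- The image of a word. -/
def el (w : List ℕ) : Gp := ev (Act.letters ActH.act relsG) w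

/-- The point fixed by the stabilizer. -/
def pt0 : Pt := ⟨0, by decide +kernel⟩

/-- A letter. -/
def let' (x : ℕ) : Gp := Act.letters ActH.act relsG x

theorem let_sq {x : ℕ} (hx : x < 9) : let' x * let' x = 1 := by
  rw [let', Act.letters_of_lt (show x < ActH.act.k from hx)]
  exact (sat_presGen _ _).sq x

theorem let_smul {x : ℕ} (hx : x < ActH.act.K) (c : Pt) : ((let' x • c : Pt) : ℕ) = ActH.act.T x c :=
  ActH.valid.action_apply hx c

theorem el_smul {w : List ℕ} (hw : ∀ x ∈ w, x < ActH.act.K) (c : Pt) : ((el w • c : Pt) : ℕ) = ActH.act.wact w c := by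
  show ((ActH.valid.rho (el w) c : Pt) : ℕ) = _
  rw [el, map_ev, ev_congr (g' := ActH.valid.perm) fun y _ => ActH.valid.rho_letters y, ActH.valid.wact_eq hw]

theorem ev_reverse {G : Type*} [Group G] {g : ℕ → G} : ∀ {w : List ℕ}, (∀ x ∈ w, g x * g x = 1) →
    ev g w.reverse = (ev g w)⁻¹ := by
  intro w
  induction w with
  | nil => intro _; simp [ev]
  | cons a w ih =>
    intro h
    rw [List.reverse_cons, ev_append, ih fun x hx => h x (List.mem_cons_of_mem _ hx), ev_cons g a w, mul_inv_rev,
      inv_eq_of_mul_eq_one_right (h a List.mem_cons_self)]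
    simp [ev]

theorem el_reverse {w : List ℕ} (hw : ∀ x ∈ w, x < 9) : el w.reverse = (el w)⁻¹ :=
  ev_reverse fun x hx => let_sq (hw x hx)

theorem below_K {w : List ℕ} (hw : ∀ x ∈ w, x < 9) : ∀ x ∈ w, x < ActH.act.K :=
  fun x hx => lt_of_lt_of_le (hw x hx) (Nat.le_add_right _ _)

theorem faithful {g : Gp} (h : ∀ c : Pt, g • c = c) : g = 1 :=
  rho_injective ((Equiv.ext h).trans (map_one _).symm)

theorem el_eq {w w' : List ℕ} (hw : ∀ x ∈ w, x < ActH.act.K) (hw' : ∀ x ∈ w', x < ActH.act.K)
    (h : ∀ c : Pt, ActH.act.wact w c = ActH.act.wact w' c) : el w = el w' :=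
  rho_injective (Equiv.ext fun c => Fin.ext ((el_smul hw c).trans ((h c).trans (el_smul hw' c).symm)))

theorem mem_subH_iff (g : Gp) : g ∈ subH ↔ g • pt0 = pt0 := by
  obtain ⟨S, h0, -, -⟩ := exists_suborbitsH
  have e : S.a = pt0 := Fin.ext h0
  rw [← e]
  exact (S.mem_iff g).symm

theorem trans_pt (p : Pt) : ∃ g : Gp, g • pt0 = p := by
  obtain ⟨S, h0, -, -⟩ := exists_suborbitsH
  have e : S.a = pt0 := Fin.ext h0
  rw [← e]
  exact S.trans p

/-- The first transposition. -/
def zee : Gp := presGen ActH.act.k relsG 0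

theorem zee_sq : zee * zee = 1 := (sat_presGen _ _).sq 0

theorem zee_ne : zee ≠ 1 := fun h => by
  have h1 := el_smul (w := [0]) (by decide +kernel) (⟨14, by decide +kernel⟩ : Pt)
  rw [show el [0] = zee by simp [el, ev, zee, Act.letters_of_lt (show 0 < ActH.act.k by decide +kernel)], h,
    one_smul] at h1
  exact (by decide +kernel : ActH.act.wact [0] 14 ≠ 14) h1.symm

theorem centralizer_zee : Subgroup.centralizer ({zee} : Set Gp) = subH := by
  obtain ⟨S, -, hsz, hrep⟩ := exists_suborbitsH
  have hsimple := simple_act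
  have hle : subH ≤ Subgroup.centralizer ({zee} : Set Gp) := fun y hy =>
    Subgroup.mem_centralizer_singleton_iff.2 (commute_subH hy)
  rcases S.maximal (i₀ := 0) rfl hrep (by
    rw [Nat.card_fin, show S.size = fun i => [1, 2816, 693].get i from funext fun i => by
      fin_cases i <;> simp [hsz.1, hsz.2.1, hsz.2.2]]
    decide +kernel) hle with h | h
  · exact h
  · exfalso
    have hc : zee ∈ Subgroup.center Gp := Subgroup.mem_center_iff.2 fun y =>
      (Subgroup.mem_centralizer_singleton_iff.1 (h ▸ Subgroup.mem_top y))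
    rcases IsSimpleGroup.eq_bot_or_eq_top_of_normal (Subgroup.center Gp) inferInstance with hb | hb
    · exact zee_ne (Subgroup.mem_bot.1 (hb ▸ hc))
    · have h1 : el [1] * el [0] = el [0] * el [1] :=
        Subgroup.mem_center_iff.1 (hb ▸ Subgroup.mem_top (el [0]) : el [0] ∈ Subgroup.center Gp) (el [1])
      have h2 : el [1, 0] = el [0, 1] := by simpa [el, ev] using h1
      have h3 := congrArg (fun g : Gp => ((g • pt0 : Pt) : ℕ)) h2
      rw [el_smul (by decide +kernel), el_smul (by decide +kernel)] at h3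
      exact (by decide +kernel : ActH.act.wact [1, 0] 0 ≠ ActH.act.wact [0, 1] 0) h3

theorem commute_zee_iff (g : Gp) : Commute g zee ↔ g • pt0 = pt0 := by
  rw [← mem_subH_iff, ← centralizer_zee, Subgroup.mem_centralizer_singleton_iff]
  rfl

/-- The transposition at a point. -/
def trp (p : Pt) : Gp := (trans_pt p).choose * zee * (trans_pt p).choose⁻¹

theorem trp_eq {p : Pt} {g : Gp} (h : g • pt0 = p) : trp p = g * zee * g⁻¹ := by
  have hu := (trans_pt p).choose_spec
  rw [trp]
  generalize (trans_pt p).choose = u at hu ⊢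
  have hk : Commute (g⁻¹ * u) zee := (commute_zee_iff _).2 (by rw [mul_smul, hu, inv_smul_eq_iff, h])
  calc u * zee * u⁻¹ = g * ((g⁻¹ * u) * zee * (g⁻¹ * u)⁻¹) * g⁻¹ := by group
    _ = g * zee * g⁻¹ := by rw [hk.eq, mul_inv_cancel_right]

theorem trp_pt0 : trp pt0 = zee := by rw [trp_eq (one_smul Gp pt0)]; simp

theorem conj_trp (g : Gp) (p : Pt) : g * trp p * g⁻¹ = trp (g • p) := by
  obtain ⟨u, rfl⟩ := trans_pt p
  rw [trp_eq (g := u) rfl, trp_eq (g := g * u) (mul_smul g u pt0), mul_inv_rev]
  group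

theorem trp_sq (p : Pt) : trp p * trp p = 1 := by
  obtain ⟨u, rfl⟩ := trans_pt p
  rw [trp_eq (g := u) rfl, show u * zee * u⁻¹ * (u * zee * u⁻¹) = u * (zee * zee) * u⁻¹ by group, zee_sq, mul_one,
    mul_inv_cancel]

theorem trp_ne_one (p : Pt) : trp p ≠ 1 := by
  obtain ⟨u, rfl⟩ := trans_pt p
  rw [trp_eq (g := u) rfl]
  intro h
  exact zee_ne (conj_eq_one_iff.1 h)

theorem trp_inj {p q : Pt} (h : trp p = trp q) : p = q := by
  obtain ⟨u, rfl⟩ := trans_pt p
  obtain ⟨v, rfl⟩ := trans_pt q
  rw [trp_eq (g := u) rfl, trp_eq (g := v) rfl] at h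
  have hk : Commute (v⁻¹ * u) zee := by
    show v⁻¹ * u * zee = zee * (v⁻¹ * u)
    calc v⁻¹ * u * zee = v⁻¹ * (u * zee * u⁻¹) * u := by group
      _ = v⁻¹ * (v * zee * v⁻¹) * u := by rw [h]
      _ = zee * (v⁻¹ * u) := by group
  have := (commute_zee_iff _).1 hk
  rwa [mul_smul, inv_smul_eq_iff] at this

theorem commute_trp_iff (g : Gp) (p : Pt) : Commute g (trp p) ↔ g • p = p := by
  constructor
  · intro h
    refine trp_inj ?_
    rw [← conj_trp, h.eq, mul_inv_cancel_right]
  · intro h
    have := conj_trp g p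
    rw [h] at this
    exact (eq_mul_inv_iff_mul_eq.1 this.symm).symm

theorem trp_fix_comm (p q : Pt) : trp p • q = q ↔ trp q • p = p := by
  rw [← commute_trp_iff, ← commute_trp_iff]
  exact ⟨Commute.symm, Commute.symm⟩

theorem trp_fix_smul (g : Gp) (p q : Pt) : trp (g • p) • (g • q) = g • q ↔ trp p • q = q := by
  rw [← conj_trp, mul_smul, mul_smul, inv_smul_smul, smul_left_cancel_iff]

/-- The transposition at the image of a word. -/
theorem trp_word {u : List ℕ} (hu : ∀ x ∈ u, x < 9) {p : Pt} (hp : ActH.act.wact u 0 = p) :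
    trp p = el (u ++ 0 :: u.reverse) := by
  have h : el u • pt0 = p := Fin.ext ((el_smul (below_K hu) pt0).trans hp)
  rw [trp_eq h, show el (u ++ 0 :: u.reverse) = el u * (zee * el u.reverse) by
    simp only [el, ev_append, ev_cons]; rw [Act.letters_of_lt (show 0 < ActH.act.k by decide +kernel)]; rfl, el_reverse hu, mul_assoc]

end

end CfsgLib.Spor.Fi22Out
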