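/-
Points, words and orbit certificates in the action on 3510 points, found by a computer search.
-/
import Mathlib.Tactic.Common

namespace CfsgLib.Spor.Fi22Out

/-- The points of the generators. -/
def pts : List ℕ := [0, 14, 12, 10, 59, 110, 173, 34, 86]

/-- A word of order eleven. -/
def xw : List ℕ := [7, 8, 3, 9, 4, 2, 5, 6, 8]

/-- Neighbours of the first point with a fixed pattern along their cycle. -/
def sigSet : List ℕ := [357, 362, 561, 580, 593, 701, 703, 828, 863, 907, 1026, 1052, 1061, 1186, 1245, 1410, 1412, 1529, 1601, 1602, 1637, 1728, 1730, 1809, 1998, 2010, 2040, 2060, 2085, 2141, 2691, 3085, 3103]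

/-- Their cycles, with derivations from each. -/
def cycleRows : List (List ℕ × List (List ℕ × ℕ)) := [
    ([357, 1809, 1412, 2010, 3103, 3085, 2085, 1602, 1601, 907, 593], [
    ([7, 4, 5, 3, 4, 2, 3, 7, 8, 4, 5, 3, 4, 1, 2, 3, 7, 6, 5, 4, 3, 2, 1], 357),
    ([7, 4, 5, 3, 4, 2, 3, 7, 8, 4, 5, 3, 4, 1, 2, 3, 7, 6, 5, 4, 3, 2, 1], 1809),
    ([7, 5, 3, 4, 2, 3, 7, 8, 4, 1, 2, 3, 7, 6, 5, 4, 3, 2, 1], 1809),
    ([8, 2, 3, 7, 1, 2, 3, 4, 0, 1, 2, 3, 7, 8, 3, 4, 5, 2, 3, 4, 1, 2, 3, 7, 6, 5, 4, 3, 2, 1], 1412),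
    ([7, 4, 5, 3, 4, 2, 3, 7, 8, 4, 5, 3, 4, 1, 2, 3, 7, 6, 5, 4, 3, 2, 1], 1412),
    ([7, 3, 4, 2, 3, 7, 8, 1, 2, 3, 7, 6, 5, 4, 3, 2, 1], 1412),
    ([7, 3, 4, 2, 3, 7, 8, 1, 2, 3, 7, 6, 5, 4, 3, 2, 1], 2085),
    ([7, 3, 4, 2, 3, 7, 8, 1, 2, 3, 7, 6, 5, 4, 3, 2, 1], 682),
    ([7, 5, 3, 4, 2, 3, 7, 8, 4, 5, 3, 4, 1, 2, 3, 7, 6, 5, 4, 3, 2, 1], 359),
    ([7, 4, 5, 3, 4, 2, 3, 7, 8, 4, 5, 3, 4, 1, 2, 3, 7, 6, 5, 4, 3, 2, 1], 558),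
    ([3, 7, 4, 5, 3, 4, 2, 3, 7, 8, 7, 4, 5, 3, 4, 1, 2, 3, 7, 6, 5, 4, 3, 2, 1], 692),
    ([7, 4, 5, 3, 4, 2, 3, 7, 8, 4, 5, 3, 4, 1, 2, 3, 7, 6, 5, 4, 3, 2, 1], 444),
    ([3, 7, 4, 5, 3, 4, 2, 3, 7, 8, 7, 4, 5, 3, 4, 1, 2, 3, 7, 6, 5, 4, 3, 2, 1], 217),
    ([8, 2, 3, 7, 1, 2, 3, 4, 0, 1, 2, 3, 7, 8, 3, 4, 5, 2, 3, 4, 1, 2, 3, 7, 6, 5, 4, 3, 2, 1], 2873),
    ([3, 7, 8, 2, 3, 7, 4, 5, 3, 4, 2, 3, 7, 8, 3, 4, 5, 2, 3, 4, 1, 2, 3, 7, 6, 5, 4, 3, 2, 1], 2942),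
    ([8, 2, 3, 7, 4, 5, 3, 4, 2, 3, 7, 8, 5, 3, 4, 1, 2, 3, 7, 6, 5, 4, 3, 2, 1], 2149),
    ([3, 7, 4, 5, 3, 4, 2, 3, 7, 8, 7, 4, 5, 3, 4, 1, 2, 3, 7, 6, 5, 4, 3, 2, 1], 2257),
    ([7, 5, 3, 4, 2, 3, 7, 8, 4, 1, 2, 3, 7, 6, 5, 4, 3, 2, 1], 736),
    ([8, 7, 4, 5, 3, 4, 2, 3, 7, 8, 4, 5, 3, 4, 1, 2, 3, 7, 6, 5, 4, 3, 2, 1], 2041)]),
    ([362, 1728, 1410, 1245, 1998, 2691, 2040, 1529, 1061, 1052, 1026], [
    ([4, 5, 3, 4, 2, 3, 7, 8, 7, 3, 4, 1, 2, 3, 7, 6, 5, 4, 3, 2, 1], 362),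
    ([7, 4, 5, 3, 4, 2, 3, 7, 8, 3, 7, 4, 5, 3, 4, 1, 2, 3, 7, 6, 5, 4, 3, 2, 1], 362),
    ([5, 3, 4, 2, 3, 7, 8, 7, 4, 5, 2, 3, 4, 1, 2, 3, 7, 6, 5, 4, 3, 2, 1], 362),
    ([4, 5, 3, 4, 2, 3, 7, 8, 3, 4, 1, 2, 3, 7, 6, 5, 4, 3, 2, 1], 1245),
    ([5, 3, 4, 2, 3, 7, 8, 7, 3, 4, 1, 2, 3, 7, 6, 5, 4, 3, 2, 1], 1245),
    ([8, 7, 3, 4, 2, 3, 7, 8, 3, 4, 1, 2, 3, 7, 6, 5, 4, 3, 2, 1], 2040),
    ([8, 7, 3, 4, 2, 3, 7, 8, 3, 4, 1, 2, 3, 7, 6, 5, 4, 3, 2, 1], 1529),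
    ([8, 7, 3, 4, 2, 3, 7, 8, 3, 4, 1, 2, 3, 7, 6, 5, 4, 3, 2, 1], 221),
    ([7, 4, 5, 3, 4, 2, 3, 7, 8, 4, 5, 2, 3, 4, 1, 2, 3, 7, 6, 5, 4, 3, 2, 1], 1716),
    ([4, 5, 3, 4, 2, 3, 7, 8, 3, 4, 1, 2, 3, 7, 6, 5, 4, 3, 2, 1], 78),
    ([5, 3, 4, 2, 3, 7, 8, 7, 4, 5, 2, 3, 4, 1, 2, 3, 7, 6, 5, 4, 3, 2, 1], 840),
    ([4, 5, 3, 4, 2, 3, 7, 8, 7, 3, 4, 1, 2, 3, 7, 6, 5, 4, 3, 2, 1], 340),
    ([3, 7, 1, 2, 3, 4, 0, 1, 2, 3, 7, 8, 3, 7, 5, 2, 3, 4, 1, 2, 3, 7, 6, 5, 4, 3, 2, 1], 471),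
    ([8, 7, 3, 4, 2, 3, 7, 8, 3, 4, 1, 2, 3, 7, 6, 5, 4, 3, 2, 1], 725),
    ([7, 4, 5, 3, 4, 2, 3, 7, 8, 3, 7, 4, 5, 3, 4, 1, 2, 3, 7, 6, 5, 4, 3, 2, 1], 2242),
    ([4, 5, 3, 4, 2, 3, 7, 8, 7, 3, 4, 1, 2, 3, 7, 6, 5, 4, 3, 2, 1], 1381),
    ([4, 2, 3, 7, 8, 4, 1, 2, 3, 7, 5, 4, 3, 2, 1], 463),
    ([7, 4, 5, 3, 4, 2, 3, 7, 8, 4, 5, 2, 3, 4, 1, 2, 3, 7, 6, 5, 4, 3, 2, 1], 2141),
    ([4, 5, 3, 4, 2, 3, 7, 8, 7, 3, 4, 1, 2, 3, 7, 6, 5, 4, 3, 2, 1], 1444),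
    ([4, 5, 3, 4, 2, 3, 7, 8, 4, 5, 3, 4, 1, 2, 3, 7, 6, 5, 4, 3, 2, 1], 1235)]),
    ([561, 863, 1730, 2060, 2141, 701, 703, 1637, 580, 1186, 828], [
    ([8, 3, 7, 4, 5, 3, 4, 2, 3, 7, 8, 7, 5, 3, 4, 1, 2, 3, 7, 6, 5, 4, 3, 2, 1], 561),
    ([3, 7, 8, 7, 4, 5, 3, 4, 1, 2, 3, 7, 6, 5, 4, 3, 2, 1], 561),
    ([4, 3, 7, 8, 4, 5, 3, 4, 1, 2, 3, 7, 6, 5, 4, 3, 2, 1], 561),
    ([3, 7, 8, 7, 4, 5, 3, 4, 1, 2, 3, 7, 6, 5, 4, 3, 2, 1], 863),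
    ([6, 5, 4, 2, 3, 7, 8, 5, 2, 3, 4, 1, 2, 3, 7, 6, 5, 4, 3, 2, 1], 863),
    ([8, 7, 4, 5, 3, 4, 2, 3, 7, 8, 5, 3, 4, 1, 2, 3, 7, 6, 5, 4, 3, 2, 1], 589),
    ([3, 7, 8, 7, 4, 5, 2, 3, 4, 1, 2, 3, 7, 6, 5, 4, 3, 2, 1], 589),
    ([8, 7, 4, 5, 3, 4, 2, 3, 7, 8, 5, 3, 4, 1, 2, 3, 7, 6, 5, 4, 3, 2, 1], 3270),
    ([8, 7, 5, 3, 4, 2, 3, 7, 8, 4, 5, 2, 3, 4, 1, 2, 3, 7, 6, 5, 4, 3, 2, 1], 58),
    ([3, 7, 8, 7, 4, 5, 2, 3, 4, 1, 2, 3, 7, 6, 5, 4, 3, 2, 1], 680),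
    ([3, 7, 8, 7, 4, 5, 3, 4, 1, 2, 3, 7, 6, 5, 4, 3, 2, 1], 1062),
    ([8, 7, 5, 3, 4, 2, 3, 7, 8, 4, 5, 2, 3, 4, 1, 2, 3, 7, 6, 5, 4, 3, 2, 1], 1922),
    ([3, 7, 8, 7, 4, 5, 3, 4, 1, 2, 3, 7, 6, 5, 4, 3, 2, 1], 857),
    ([8, 7, 5, 3, 4, 2, 3, 7, 8, 4, 5, 2, 3, 4, 1, 2, 3, 7, 6, 5, 4, 3, 2, 1], 10),
    ([4, 2, 3, 7, 8, 7, 5, 3, 4, 1, 2, 3, 7, 6, 5, 4, 3, 2, 1], 2010),
    ([8, 7, 6, 5, 3, 4, 2, 3, 7, 8, 3, 4, 5, 2, 3, 4, 1, 2, 3, 7, 6, 5, 4, 3, 2, 1], 1915),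
    ([4, 3, 7, 8, 4, 5, 3, 4, 1, 2, 3, 7, 6, 5, 4, 3, 2, 1], 861)])]

/-- Words of transpositions in step 0. -/
def gens0 : List (List ℕ) := [
    [2, 3, 7, 4, 5, 3, 4, 2, 3, 7, 8, 2, 3, 4, 1, 2, 3, 7, 6, 5, 4, 3, 2, 1],
    [5, 3, 4, 2, 3, 7, 8, 7, 2, 3, 4, 1, 2, 3, 7, 6, 5, 4, 3, 2, 1],
    [4, 3, 7, 8, 7, 5, 2, 3, 4, 1, 2, 3, 7, 6, 5, 4, 3, 2, 1], [4, 3, 7, 2, 3, 4, 1, 2, 3, 7, 5, 4, 3, 2, 1],
    [6, 5, 3, 4, 2, 3, 7, 8, 7, 4, 5, 3, 4, 1, 2, 3, 7, 6, 5, 4, 3, 2, 1], [3, 4, 1, 2, 3, 7, 5, 4, 3, 2, 1]]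

/-- The orbit tree of step 0. -/
def rows0 : List (ℕ × ℕ) := [
    (0, 173), (1, 173), (3, 173), (4, 173), (5, 173), (2, 1995), (3, 1995), (4, 1995), (2, 1063), (3, 1063),
    (5, 1063), (0, 433), (2, 433), (4, 433), (0, 1401), (2, 1401), (3, 1401), (5, 1401), (1, 175), (2, 175),
    (1, 873), (4, 873), (5, 873), (0, 1616), (5, 1616), (0, 85), (1, 85), (2, 85), (3, 2939), (4, 2939),
    (5, 2939), (0, 224), (2, 224), (4, 224), (5, 224), (0, 1615), (1, 1615), (2, 1615), (3, 1615), (1, 1422),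
    (4, 1422), (5, 1422), (1, 366), (4, 366), (5, 366), (0, 1048), (1, 1048), (2, 1048), (3, 1048), (1, 109),
    (2, 109), (3, 109), (5, 109), (0, 2772), (1, 2772), (3, 2772), (0, 868), (2, 868), (5, 868), (0, 547),
    (1, 547), (3, 547), (0, 1826), (2, 1826), (4, 1826), (0, 697), (1, 697), (3, 3087), (5, 3087), (0, 1237),
    (3, 1237), (1, 580), (2, 580), (4, 580), (1, 1538), (3, 1474), (5, 1474), (5, 1052), (3, 688), (5, 688),
    (2, 2232), (4, 2232), (5, 2232), (1, 452), (3, 452), (5, 452), (3, 3085), (1, 855), (4, 855), (1, 425),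
    (4, 425), (5, 425), (0, 1437), (1, 1437), (5, 1437), (2, 1212), (3, 1212), (4, 342), (3, 1727), (4, 1727),
    (3, 1037), (4, 1037), (2, 707), (4, 707), (2, 145), (0, 1734), (2, 1734), (3, 1734), (5, 1734), (2, 1258),
    (0, 2139), (5, 2139), (0, 551), (2, 551), (3, 551), (5, 551), (0, 51), (1, 51), (1, 2498), (5, 2498),
    (0, 1590), (2, 1590), (5, 1590), (1, 368), (3, 368), (5, 368), (2, 1763), (5, 1763), (1, 555), (3, 555),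
    (5, 555), (0, 430), (2, 430), (4, 430), (0, 275), (2, 275), (1, 704), (5, 704), (0, 566), (3, 566),
    (4, 566), (5, 566), (2, 2059), (5, 2059), (1, 226), (2, 226), (5, 226), (0, 289), (1, 289), (4, 289),
    (0, 1221), (1, 1221), (3, 1221), (2, 2242), (3, 2242), (3, 53), (4, 53), (0, 467), (2, 467), (2, 460),
    (3, 460), (0, 861), (3, 861), (4, 861), (2, 437), (3, 437), (1, 1436), (3, 1436), (5, 1436), (0, 559),
    (4, 559), (0, 2627), (5, 2627), (0, 2011), (1, 2011), (2, 2011), (3, 2011), (1, 1854), (3, 1854),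
    (4, 1854), (0, 1397), (4, 1397), (4, 698), (5, 698), (5, 1577), (3, 727), (4, 184), (4, 465), (5, 465),
    (1, 1998), (2, 1998), (3, 1998), (2, 1035), (3, 1035), (0, 1061), (0, 2378), (1, 2378), (4, 2378),
    (5, 2378), (0, 686), (1, 686), (5, 686), (0, 3400), (1, 3400), (2, 3400), (3, 3400), (0, 1215), (3, 1215),
    (5, 1215), (0, 215), (2, 215), (5, 215), (0, 144), (1, 144), (2, 144), (3, 144), (0, 2628), (2, 2628),
    (4, 2628), (0, 2138), (1, 2138), (4, 2060), (0, 176), (1, 176), (3, 176), (5, 176), (0, 1788), (3, 1270),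
    (5, 1270), (5, 288), (0, 1540), (1, 1540), (2, 1540), (3, 1540), (0, 1635), (4, 1412), (2, 358), (3, 358),
    (2, 1398), (2, 28), (0, 2177), (1, 548), (0, 170), (1, 170), (4, 1525), (5, 1525), (5, 363), (1, 1357),
    (5, 2244), (0, 2637), (1, 2637), (2, 2637), (3, 2637), (0, 1042), (4, 1042), (3, 1184), (3, 899),
    (5, 1828), (0, 1352), (2, 1352), (1, 906), (2, 906), (2, 1222), (3, 1222), (4, 1524), (0, 290), (2, 290),
    (2, 2512), (3, 2512), (1, 541), (5, 541), (2, 3160), (0, 1765), (4, 1765), (5, 1765), (5, 1279), (0, 352),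
    (1, 352), (3, 352), (4, 138), (5, 138), (0, 594), (3, 990), (0, 218), (4, 218), (0, 362), (2, 362),
    (4, 576), (5, 576), (5, 429), (1, 283), (2, 283), (2, 845), (3, 845), (1, 579), (4, 579), (5, 57),
    (1, 1375), (2, 1375), (3, 1375), (0, 2499), (2, 2499), (5, 2499), (3, 907), (5, 907), (0, 708), (3, 708),
    (1, 441), (4, 441), (0, 2000), (1, 2000), (0, 1808), (4, 1808), (5, 1808), (2, 35), (3, 35), (3, 1551),
    (5, 1551), (4, 1634), (5, 1634), (1, 1807), (3, 1807), (2, 1617), (3, 348), (5, 292), (0, 171), (4, 171),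
    (5, 171), (0, 219), (2, 219), (4, 219), (5, 219), (2, 1080), (3, 1080), (1, 1989), (4, 1989), (1, 346),
    (4, 346), (4, 1041), (2, 2176), (3, 2176), (0, 432), (3, 432), (5, 432), (2, 110), (3, 8), (2, 1373),
    (4, 463), (2, 905), (3, 905), (2, 2683), (4, 2683), (5, 2683), (1, 1469), (2, 1469), (3, 1469), (2, 227),
    (3, 227), (4, 227), (2, 455), (3, 455), (0, 222), (1, 222), (0, 2292), (3, 583), (4, 2432), (2, 885),
    (3, 885), (5, 2433), (5, 1565), (2, 370), (5, 1468), (0, 2492), (2, 2492), (3, 2492), (1, 1550),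
    (5, 1550), (0, 1032), (1, 1032), (2, 1032), (3, 1032), (3, 730), (0, 231), (4, 231), (0, 872), (0, 637),
    (4, 637), (0, 2037), (4, 2037), (2, 182), (3, 182), (5, 2149), (3, 213), (5, 213), (1, 1395), (5, 356),
    (1, 1420), (1, 347), (2, 1069), (4, 1069), (4, 2141), (2, 1046), (2, 2040), (5, 2755), (2, 274), (3, 274),
    (2, 1235), (2, 78), (3, 78), (0, 1921), (1, 1921), (3, 1921), (4, 79), (1, 1091), (5, 180), (1, 1467),
    (5, 271), (3, 449), (5, 449), (2, 29), (0, 34), (1, 34), (2, 34), (4, 830), (5, 893), (2, 702), (1, 849),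
    (2, 849), (3, 849), (0, 1743), (3, 1743), (0, 52), (0, 3006), (4, 3006), (1, 471), (2, 471), (1, 1413),
    (0, 715), (2, 715), (0, 1435), (5, 869), (1, 9), (4, 9), (2, 50), (1, 216), (4, 369), (5, 912), (5, 2873),
    (1, 1829), (2, 1829), (2, 886), (3, 886), (2, 687), (4, 1647), (3, 2687), (0, 11), (1, 11), (0, 1579),
    (4, 1579), (2, 2936), (1, 1403), (2, 1403), (4, 1403), (5, 1403), (5, 1200), (0, 880), (2, 880), (4, 880),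
    (0, 1539), (1, 1539), (4, 1941), (2, 2684), (3, 2684), (5, 2294), (4, 340), (5, 340), (0, 1852),
    (4, 1852), (4, 719), (4, 113), (5, 1913), (3, 3103), (4, 228), (1, 1374), (5, 1374), (1, 221), (3, 221),
    (4, 1003), (5, 1003), (5, 267), (3, 444), (4, 1053), (0, 1776), (5, 2038), (1, 270), (4, 270), (4, 84),
    (0, 62), (3, 62), (3, 860), (0, 223), (0, 1028), (2, 108), (1, 1026), (4, 1026), (3, 913), (0, 1047),
    (5, 1047), (2, 2125), (5, 114), (3, 549), (5, 549), (0, 591), (2, 591), (3, 591), (1, 2625), (2, 2625),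
    (5, 225), (0, 343), (0, 732), (3, 732), (5, 732), (0, 858), (5, 858), (5, 1081), (2, 367), (4, 367),
    (5, 367), (2, 2686), (5, 2686), (1, 2608), (5, 2608), (1, 1940), (2, 1940), (4, 1004), (4, 2856),
    (2, 436), (3, 436), (0, 139), (0, 557), (3, 557), (5, 557), (5, 1008), (2, 33), (2, 1025), (4, 1667),
    (1, 854), (0, 2431), (2, 2431), (2, 592), (4, 592), (1, 999), (4, 2379), (3, 1997), (4, 1997), (3, 2178),
    (5, 844), (4, 1082), (0, 284), (5, 284), (4, 1002), (1, 700), (2, 448), (1, 459), (2, 106), (1, 1809),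
    (1, 214), (5, 1580), (5, 1764), (5, 1236), (0, 1014), (1, 1014), (2, 1014), (4, 571), (4, 1245),
    (5, 1245), (3, 1423), (1, 2256), (2, 451), (4, 451), (5, 577), (3, 281), (2, 172), (4, 172), (0, 229),
    (3, 2429), (0, 2874), (0, 1246), (4, 2295), (5, 3100), (4, 280), (5, 1470), (3, 1942), (0, 746), (3, 837),
    (4, 178), (0, 721), (0, 1529), (5, 1529), (0, 1728), (1, 1728), (2, 1728), (3, 1728), (5, 705), (0, 1062),
    (1, 456), (4, 2179), (3, 879), (4, 1786), (1, 1601), (3, 1601), (2, 863), (4, 863), (0, 1093), (1, 1093),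
    (5, 2009), (0, 1179), (1, 1179), (2, 1179), (4, 1211), (4, 1216), (2, 840), (4, 12), (4, 2937), (5, 2937),
    (4, 1009), (5, 10), (2, 2245), (0, 1999), (4, 1999), (1, 1013), (0, 703), (5, 1709), (5, 1444), (2, 690),
    (1, 1543), (2, 1543), (1, 683), (1, 466), (0, 680), (2, 680), (3, 680), (0, 2609), (0, 714), (0, 336),
    (1, 336), (3, 336), (5, 898), (4, 1348), (0, 1708), (2, 1708), (3, 266), (0, 572), (1, 572), (0, 993),
    (0, 1185), (5, 345), (5, 1775), (0, 701), (2, 701), (3, 701), (5, 1191), (0, 585), (0, 828), (1, 828),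
    (3, 828), (2, 678), (0, 1562), (2, 1562), (2, 1410), (0, 1173), (1, 569), (4, 1987), (3, 1180), (3, 1549),
    (1, 2877), (3, 450), (0, 1881), (3, 1881), (2, 691), (4, 2012), (4, 1015), (1, 2428), (1, 1228), (4, 550),
    (5, 833), (0, 1716), (2, 1912), (5, 2085), (3, 81), (3, 7), (5, 279)]

/-- Words of transpositions in step 1. -/
def gens1 : List (List ℕ) := [
    [4, 3, 7, 1, 2, 3, 4, 0, 1, 2, 3, 7, 8, 3, 4, 5, 2, 3, 4, 1, 2, 3, 7, 6, 5, 4, 3, 2, 1],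
    [3, 4, 2, 3, 7, 8, 4, 5, 2, 3, 4, 1, 2, 3, 7, 6, 5, 4, 3, 2, 1], [2, 3, 7, 8, 1, 2, 3, 7, 4, 3, 2, 1],
    [4, 3, 7, 8, 5, 4, 3, 7, 6, 5, 4, 3, 1, 2, 0, 1],
    [7, 3, 4, 2, 3, 7, 8, 5, 2, 3, 4, 1, 2, 3, 7, 6, 5, 4, 3, 2, 1],
    [4, 3, 7, 8, 4, 5, 2, 3, 4, 1, 2, 3, 7, 6, 5, 4, 3, 2, 1]]

/-- The orbit tree of step 1. -/
def rows1 : List (ℕ × ℕ) := [
    (0, 14), (1, 14), (3, 14), (4, 14), (1, 2612), (2, 2612), (3, 2612), (4, 2612), (5, 2612), (0, 1354),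
    (2, 1354), (3, 1354), (4, 1354), (5, 1354), (0, 332), (1, 332), (4, 332), (2, 1371), (3, 1371), (5, 1371),
    (0, 1583), (3, 1583), (4, 1583), (5, 1583), (3, 506), (4, 506), (5, 506), (0, 755), (1, 755), (5, 755),
    (2, 155), (5, 155), (1, 1785), (4, 1785), (3, 1416), (4, 1416), (5, 1416), (3, 1548), (5, 1548),
    (0, 2202), (1, 2202), (4, 2202), (5, 2202), (3, 1177), (0, 1001), (2, 601), (4, 601), (5, 601), (2, 1967),
    (4, 1967), (5, 1967), (2, 1294), (3, 1294), (5, 1294), (0, 1920), (3, 1920), (5, 1920), (1, 1490),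
    (5, 1490), (0, 1522), (2, 597), (4, 597), (1, 1481), (4, 1481), (5, 1481), (2, 2440), (3, 2440), (0, 796),
    (1, 796), (4, 796), (5, 796), (2, 1745), (3, 1745), (0, 375), (1, 375), (1, 39), (2, 39), (5, 39),
    (0, 1521), (2, 1521), (0, 1747), (4, 1747), (0, 2695), (1, 2695), (5, 2695), (0, 640), (4, 640), (2, 507),
    (4, 507), (3, 1287), (0, 2031), (4, 2031), (5, 2031), (2, 1285), (3, 1285), (5, 1285), (4, 1628),
    (0, 1281), (1, 1281), (4, 1281), (5, 1281), (0, 1911), (1, 1911), (4, 1911), (1, 323), (2, 323), (4, 323),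
    (0, 1585), (2, 1585), (5, 1585), (2, 239), (3, 239), (5, 239), (1, 1105), (4, 1105), (0, 2613), (1, 2613),
    (2, 246), (1, 641), (4, 641), (5, 641), (2, 249), (1, 1962), (0, 1096), (0, 1735), (1, 233), (1, 1103),
    (3, 1103), (0, 1948), (0, 1034), (0, 2908), (1, 1618), (3, 1618), (4, 729), (2, 402), (3, 402), (0, 2894),
    (2, 2894), (4, 2894), (2, 1662), (3, 1662), (5, 1662), (0, 1231), (4, 1231), (0, 1111), (1, 1111),
    (3, 1111), (0, 1535), (1, 121), (2, 121), (4, 121), (5, 121), (0, 604), (2, 604), (4, 604), (5, 604),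
    (3, 386), (5, 386), (0, 920), (1, 920), (4, 920), (0, 1289), (1, 1289), (3, 1289), (0, 1713), (1, 1713),
    (3, 2437), (2, 2196), (3, 2196), (0, 665), (2, 665), (1, 47), (4, 47), (5, 47), (0, 1527), (4, 1527),
    (5, 1677), (4, 1731), (1, 2945), (2, 2945), (4, 2945), (2, 1719), (3, 1719), (1, 1552), (3, 1552),
    (0, 677), (3, 677), (5, 677), (1, 1261), (3, 1113), (4, 1113), (3, 1424), (2, 2713), (3, 2713), (0, 1506),
    (1, 818), (2, 818), (4, 818), (2, 540), (3, 540), (5, 540), (4, 1486), (1, 2151), (3, 2151), (5, 2151),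
    (0, 1953), (1, 1953), (5, 1953), (4, 599), (2, 204), (3, 204), (1, 646), (2, 646), (5, 646), (0, 399),
    (2, 399), (5, 399), (0, 2401), (2, 753), (3, 753), (4, 753), (3, 795), (0, 1846), (4, 1846), (5, 1846),
    (4, 1076), (2, 2644), (3, 2644), (5, 2644), (2, 2656), (0, 296), (4, 296), (0, 1128), (0, 817), (0, 1816),
    (1, 748), (2, 748), (5, 748), (0, 2188), (4, 3165), (3, 1305), (5, 1305), (2, 2860), (0, 1100), (1, 1100),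
    (4, 1100), (0, 1607), (2, 398), (1, 1821), (5, 1821), (1, 23), (5, 23), (0, 780), (2, 1845), (5, 1944),
    (3, 19), (5, 19), (1, 251), (2, 251), (3, 251), (2, 3096), (3, 3096), (1, 1834), (2, 1106), (3, 1106),
    (5, 1106), (0, 1264), (1, 1264), (3, 1264), (0, 959), (1, 959), (2, 190), (4, 190), (0, 781), (4, 781),
    (2, 474), (5, 474), (0, 401), (1, 401), (3, 401), (5, 401), (0, 1557), (5, 1557), (0, 2373), (4, 2373),
    (2, 508), (5, 527), (3, 3090), (5, 3090), (1, 1363), (4, 1363), (1, 1609), (5, 1609), (0, 1620),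
    (4, 1620), (5, 2436), (5, 794), (0, 1414), (1, 1414), (4, 1414), (2, 1115), (3, 1115), (4, 1115),
    (5, 1115), (0, 2225), (5, 2225), (2, 1325), (5, 4), (0, 22), (4, 22), (2, 1726), (4, 1726), (0, 17),
    (4, 17), (2, 421), (1, 1175), (3, 1175), (5, 1175), (0, 1801), (0, 1561), (1, 1561), (1, 2180), (4, 2180),
    (0, 919), (3, 919), (4, 919), (0, 2420), (4, 2420), (4, 2197), (5, 2197), (5, 2696), (1, 1742), (4, 1742),
    (2, 400), (4, 400), (2, 804), (4, 1406), (5, 602), (1, 196), (3, 1813), (5, 1813), (1, 1544), (3, 1544),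
    (0, 2), (2, 2), (5, 538), (0, 2045), (3, 2045), (2, 475), (0, 946), (3, 946), (0, 1346), (2, 639),
    (4, 1178), (1, 2226), (5, 2134), (3, 3273), (1, 422), (5, 422), (2, 385), (0, 372), (0, 1513), (4, 1513),
    (5, 1513), (0, 643), (4, 643), (2, 505), (5, 1164), (0, 36), (1, 36), (4, 36), (2, 2620), (3, 2620),
    (0, 1132), (0, 792), (5, 2386), (0, 802), (1, 2434), (3, 2434), (1, 1966), (4, 1966), (2, 526), (0, 46),
    (2, 1224), (5, 1433), (1, 950), (3, 950), (5, 950), (0, 626), (1, 2019), (0, 2893), (2, 13), (3, 13),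
    (5, 13), (5, 1792), (0, 1790), (1, 997), (4, 997), (3, 376), (3, 1605), (4, 1297), (3, 2133), (5, 2133),
    (1, 1705), (4, 1705), (2, 821), (0, 925), (4, 1167), (2, 750), (3, 750), (3, 1322), (1, 971), (0, 676),
    (0, 503), (2, 2185), (0, 2030), (5, 2030), (1, 1367), (5, 1367), (0, 826), (5, 2634), (0, 1213),
    (3, 1781), (1, 932), (4, 932), (5, 932), (3, 1404), (5, 866), (0, 263), (4, 473), (1, 1711), (4, 1711),
    (5, 493), (0, 21), (5, 21), (2, 1796), (2, 373), (4, 373), (3, 234), (0, 2655), (4, 2655), (2, 92),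
    (0, 2452), (4, 2452), (5, 2394), (5, 1737), (3, 1259), (4, 915), (1, 1217), (2, 1217), (4, 1217),
    (2, 784), (1, 1182), (3, 1137), (5, 1137), (2, 1593), (3, 1593), (4, 1593), (2, 1661), (0, 1925),
    (2, 1925), (5, 1925), (2, 664), (4, 756), (2, 2486), (5, 2486), (3, 1461), (2, 961), (4, 1345), (3, 1095),
    (5, 1095), (0, 2145), (3, 1399), (3, 25), (5, 974), (5, 1498), (2, 635), (5, 635), (0, 918), (5, 918),
    (0, 674), (4, 311), (2, 232), (0, 2435), (4, 2444), (0, 596), (0, 758), (5, 1934), (2, 1904), (1, 1945),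
    (2, 1369), (4, 1171), (2, 1701), (2, 1554), (0, 2268), (4, 965), (2, 1755), (1, 2168), (3, 865), (3, 511),
    (3, 424), (4, 424), (4, 317), (4, 924), (1, 2131), (4, 2131), (1, 2467), (2, 1299), (3, 706), (4, 1756),
    (5, 663)]

/-- Words of transpositions in step 2. -/
def gens2 : List (List ℕ) := [
    [2, 3, 7, 8, 1, 2, 3, 7, 4, 3, 2, 1], [8, 3, 4, 5, 2, 3, 4, 1, 2, 3, 7, 6, 5, 4, 3, 2, 1],
    [7, 8, 7, 5, 2, 3, 4, 1, 2, 3, 7, 6, 5, 4, 3, 2, 1],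
    [4, 3, 7, 8, 7, 5, 2, 3, 4, 1, 2, 3, 7, 6, 5, 4, 3, 2, 1],
    [3, 7, 8, 4, 5, 2, 3, 4, 1, 2, 3, 7, 6, 5, 4, 3, 2, 1]]

/-- The orbit tree of step 2. -/
def rows2 : List (ℕ × ℕ) := [
    (0, 12), (2, 12), (3, 12), (4, 12), (1, 145), (2, 145), (3, 145), (0, 446), (3, 446), (1, 998), (2, 998),
    (1, 829), (2, 832), (4, 832), (0, 1423), (4, 1423), (4, 1525), (1, 1590), (3, 1590), (4, 1590), (1, 3271),
    (2, 3271), (4, 3271), (2, 184), (4, 184), (4, 3163), (0, 562), (3, 562), (4, 562), (2, 88), (3, 88),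
    (1, 350), (1, 30), (3, 30), (2, 7), (3, 704), (1, 541), (4, 541), (3, 995), (0, 1185), (2, 1185),
    (0, 835), (0, 1357), (3, 1357), (4, 1357), (2, 1543), (0, 352), (1, 352), (1, 1779), (3, 1779), (4, 1214),
    (1, 80), (2, 80), (3, 80), (3, 702), (2, 993), (3, 11), (4, 11), (0, 351), (3, 351), (1, 457), (0, 700),
    (3, 700), (1, 3087), (2, 3087), (4, 3087), (0, 443), (2, 275), (1, 2609), (2, 1716), (4, 1716), (0, 349),
    (3, 349), (4, 349), (1, 1710), (3, 1179), (4, 1179), (0, 282), (1, 282), (2, 282), (0, 856), (1, 1402),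
    (0, 1165), (3, 1165), (3, 114), (1, 277), (2, 277), (2, 62), (2, 1083), (0, 445), (2, 703), (1, 2179),
    (2, 2179), (0, 637), (4, 637), (2, 1351), (2, 1413), (3, 1413), (2, 1396), (0, 1002), (2, 1047), (0, 701),
    (0, 1172), (2, 863), (0, 1347), (0, 425), (3, 425), (3, 2608), (3, 1040), (3, 2125), (1, 1168), (2, 1168),
    (2, 135), (2, 1211), (2, 2692), (1, 730), (2, 1361), (3, 1361), (2, 1376), (1, 1551), (2, 1551),
    (4, 1551), (2, 29), (4, 29), (4, 335), (3, 707), (3, 988), (0, 678), (0, 178), (0, 1035), (0, 3399),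
    (4, 3399), (4, 3400), (3, 559)]

/-- Words of transpositions in step 3. -/
def gens3 : List (List ℕ) := [
    [8, 3, 4, 5, 2, 3, 4, 1, 2, 3, 7, 6, 5, 4, 3, 2, 1], [8, 3, 7, 5, 2, 3, 4, 1, 2, 3, 7, 6, 5, 4, 3, 2, 1],
    [7, 3, 4, 2, 3, 7, 8, 1, 2, 3, 7, 4, 3, 2, 1], [3, 4, 2, 3, 1, 2, 0, 1],
    [3, 4, 2, 3, 7, 8, 1, 2, 3, 7, 4, 3, 2, 1]]

/-- The orbit tree of step 3. -/
def rows3 : List (ℕ × ℕ) := [
    (1, 110), (2, 110), (3, 110), (4, 110), (2, 434), (3, 434), (3, 438), (4, 85), (0, 369), (3, 109),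
    (4, 109), (0, 439), (4, 139), (0, 549), (0, 472)]

/-- Candidates for generator 8. -/
def cands8 : List ℕ := [34, 60, 86, 427, 542, 679]

/-- Candidates for generator 7. -/
def cands7 : List ℕ := [34, 60, 86, 427, 542, 679]

/-- Candidates for generator 3. -/
def cands3 : List ℕ := [9, 10, 35, 339, 428, 429, 543, 544, 680, 681, 827, 828]

/-- Candidates for generator 4. -/
def cands4 : List ℕ := [59, 290, 370, 430, 437, 545, 682]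

/-- Words of transpositions in the last step. -/
def gensF : List (List ℕ) := [
    [3, 7, 2, 3, 1, 2, 0, 1], [8, 3, 7, 2, 3, 1, 2, 0, 1], [7, 8, 3, 7, 2, 3, 1, 2, 0, 1],
    [3, 4, 5, 2, 3, 4, 1, 2, 3, 7, 6, 5, 4, 3, 2, 1], [8, 3, 4, 5, 2, 3, 4, 1, 2, 3, 7, 6, 5, 4, 3, 2, 1],
    [7, 8, 3, 4, 5, 2, 3, 4, 1, 2, 3, 7, 6, 5, 4, 3, 2, 1]]

/-- Products in the last step and the points they reach from one tuple. -/
def rowsP : List (List ℕ × List ℕ) := [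
    ([], [86, 34, 10, 59]), ([0], [60, 34, 9, 59]), ([1], [34, 86, 35, 59]), ([2], [86, 60, 10, 59]),
    ([3], [542, 34, 339, 59]), ([4], [427, 679, 429, 59]), ([5], [86, 542, 827, 59]),
    ([1, 0], [60, 86, 9, 59]), ([2, 0], [34, 60, 35, 59]), ([3, 0], [679, 34, 428, 59]),
    ([4, 0], [60, 679, 681, 59]), ([5, 0], [427, 542, 544, 59]), ([3, 1], [34, 542, 828, 59]),
    ([4, 1], [679, 427, 543, 59]), ([5, 1], [542, 86, 680, 59]), ([3, 2], [542, 679, 339, 59]),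
    ([4, 2], [427, 60, 429, 59]), ([5, 2], [86, 427, 827, 59]), ([3, 1, 0], [679, 542, 428, 59]),
    ([4, 1, 0], [60, 427, 681, 59]), ([5, 1, 0], [427, 86, 544, 59]), ([3, 2, 0], [34, 679, 828, 59]),
    ([4, 2, 0], [679, 60, 543, 59]), ([5, 2, 0], [542, 427, 680, 59])]

/-- Products in the last step and the points they reach from one tuple. -/
def rowsR : List (List ℕ × List ℕ) := [
    ([], [34, 60, 828, 59]), ([0], [34, 86, 828, 59]), ([1], [86, 60, 827, 59]), ([2], [60, 34, 681, 59]),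
    ([3], [34, 679, 35, 59]), ([4], [679, 60, 428, 59]), ([5], [542, 427, 339, 59]),
    ([1, 0], [86, 34, 827, 59]), ([2, 0], [60, 86, 681, 59]), ([3, 0], [34, 542, 35, 59]),
    ([4, 0], [679, 427, 428, 59]), ([5, 0], [542, 86, 339, 59]), ([3, 1], [542, 679, 680, 59]),
    ([4, 1], [427, 60, 544, 59]), ([5, 1], [86, 427, 10, 59]), ([3, 2], [679, 34, 543, 59]),
    ([4, 2], [60, 679, 9, 59]), ([5, 2], [427, 542, 429, 59]), ([3, 1, 0], [542, 34, 680, 59]),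
    ([4, 1, 0], [427, 679, 544, 59]), ([5, 1, 0], [86, 542, 10, 59]), ([3, 2, 0], [679, 542, 543, 59]),
    ([4, 2, 0], [60, 427, 9, 59]), ([5, 2, 0], [427, 86, 429, 59])]

/-- The second tuple for the last four generators. -/
def tupleR : List ℕ := [34, 60, 828, 59]

/-- The points of a second generating tuple. -/
def ptsR : List ℕ := [0, 14, 12, 828, 59, 110, 173, 60, 34]

/-- Words to the points of the second tuple. -/
def wordsR : List (List ℕ) := [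
    [],
    [0, 1],
    [1, 2, 0, 1],
    [3, 7, 8, 7, 4, 5, 2, 3, 4, 1, 2, 3, 7, 6, 5, 4, 3, 2, 1],
    [3, 4, 2, 3, 1, 2, 0, 1],
    [4, 5, 3, 4, 2, 3, 1, 2, 0, 1],
    [5, 6, 4, 5, 3, 4, 2, 3, 1, 2, 0, 1],
    [8, 3, 7, 2, 3, 1, 2, 0, 1],
    [3, 7, 2, 3, 1, 2, 0, 1]]

end CfsgLib.Spor.Fi22Out
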