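/-
The generators as transpositions, and tests for commuting transpositions.
-/
import Cfsg.Agent.Lib.Spor.Fi22Out.Base
import Cfsg.Agent.Lib.Spor.Fi22Out.Data

set_option autoImplicit false

namespace CfsgLib.Spor.Fi22Out

open CfsgLib.Spor.TC CfsgLib.Spor.Fi22 MulAction

noncomputable section

attribute [local instance] actionH

/-- The point of a generator, as a number. -/
def ptN (x : ℕ) : ℕ := pts.getD x 0

theorem ptN_lt (x : ℕ) : ptN x < ActH.act.n := by
  have h : ∀ p ∈ pts, p < 3510 := by decide
  unfold ptN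
  by_cases hx : x < pts.length
  · rw [List.getD_eq_getElem _ _ hx]; exact h _ (List.getElem_mem hx)
  · rw [List.getD_eq_default _ _ (Nat.not_lt.1 hx)]; exact Nat.lt_of_sub_pos (by decide +kernel)

/-- The point of a generator. -/
def gpt (x : ℕ) : Pt := ⟨ptN x, ptN_lt x⟩

theorem braid_rels : ∀ e ∈ [(0, 1), (1, 2), (2, 3), (3, 4), (4, 5), (5, 6), (3, 7), (7, 8)],
    ([e.1, e.2], 3) ∈ relsG ∧ e.1 < 9 ∧ e.2 < 9 := by decide +kernel

theorem pts_steps : ptN 0 = 0 ∧ ∀ e ∈ [(0, 1), (1, 2), (2, 3), (3, 4), (4, 5), (5, 6), (3, 7), (7, 8)],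
    ActH.act.wact [e.1, e.2] (ptN e.1) = ptN e.2 := by decide +kernel

theorem gpt_zero : gpt 0 = pt0 := Fin.ext pts_steps.1

theorem conj_step {x y : ℕ} (hx : x < 9) (hy : y < 9) (h : (let' x * let' y) ^ 3 = 1) :
    let' x * let' y * let' x * (let' x * let' y)⁻¹ = let' y ∧
      let' y * let' x * let' y * (let' y * let' x)⁻¹ = let' x := by
  have sx := let_sq hx
  have sy := let_sq hy
  generalize let' x = a at h sx
  generalize let' y = b at h sy
  have ia : a⁻¹ = a := inv_eq_of_mul_eq_one_right sx
  have ib : b⁻¹ = b := inv_eq_of_mul_eq_one_right sy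
  have e : a * b * a = b * a * b := by
    refine eq_of_mul_inv_eq_one ?_
    rw [mul_inv_rev, mul_inv_rev, ia, ib]
    simpa [pow_succ, mul_assoc] using h
  constructor
  · rw [e, mul_inv_rev, ia, ib]
    calc b * a * b * (b * a) = b * (a * (b * b) * a) := by group
      _ = b := by rw [sy, mul_one, sx, mul_one]
  · rw [← e, mul_inv_rev, ia, ib]
    calc a * b * a * (a * b) = a * (b * (a * a) * b) := by group
      _ = a := by rw [sx, mul_one, sy, mul_one]

theorem letters_trp : ∀ x, x < 9 → let' x = trp (gpt x) := by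
  have h0 : let' 0 = trp (gpt 0) := by
    rw [gpt_zero, trp_pt0, let', Act.letters_of_lt (show 0 < ActH.act.k by decide +kernel)]; rfl
  have up : ∀ e ∈ [(0, 1), (1, 2), (2, 3), (3, 4), (4, 5), (5, 6), (3, 7), (7, 8)],
      let' e.1 = trp (gpt e.1) → let' e.2 = trp (gpt e.2) := by
    intro e he h
    obtain ⟨hr, hx, hy⟩ := braid_rels e he
    have hc : (let' e.1 * let' e.2) ^ 3 = 1 := by
      have hh := (sat_presGen ActH.act.k relsG).rel _ hr
      simpa [ev, let', Act.letters_of_lt (show e.1 < ActH.act.k from hx),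
        Act.letters_of_lt (show e.2 < ActH.act.k from hy)] using hh
    have hK : ∀ z ∈ [e.1, e.2], z < ActH.act.K := below_K (by simp [hx, hy])
    have e1 : el [e.1, e.2] • gpt e.1 = gpt e.2 := Fin.ext ((el_smul hK _).trans (pts_steps.2 e he))
    rw [← e1, ← conj_trp, ← h, show el [e.1, e.2] = let' e.1 * let' e.2 by simp [el, ev, let']]
    exact (conj_step hx hy hc).1.symm
  have h1 := up (0, 1) (by decide) h0
  have h2 := up (1, 2) (by decide) h1
  have h3 := up (2, 3) (by decide) h2
  have h4 := up (3, 4) (by decide) h3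
  have h5 := up (4, 5) (by decide) h4
  have h6 := up (5, 6) (by decide) h5
  have h7 := up (3, 7) (by decide) h3
  have h8 := up (7, 8) (by decide) h7
  intro x hx
  interval_cases x
  exacts [h0, h1, h2, h3, h4, h5, h6, h7, h8]

theorem letters_fix {x : ℕ} (hx : x < 9) (p : Pt) :
    ActH.act.T x p = p ↔ trp (gpt x) • p = p := by
  have hK : x < ActH.act.K := lt_of_lt_of_le hx (Nat.le_add_right _ _)
  rw [← letters_trp x hx, ← let_smul hK p]
  exact Fin.ext_iff.symm

theorem gens_eq (x : ℕ) (hx : x < 9) : presGen ActH.act.k relsG x = trp (gpt x) := by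
  rw [← letters_trp x hx, let', Act.letters_of_lt (show x < ActH.act.k from hx)]

theorem commute_gens {g : Gp} (h : ∀ x, x < 9 → g • gpt x = gpt x) : g = 1 := by
  have := simple_act
  have hc : ∀ x, x < 9 → Commute g (presGen ActH.act.k relsG x) := fun x hx => by
    rw [gens_eq x hx]; exact (commute_trp_iff _ _).2 (h x hx)
  have hz : g ∈ Subgroup.center Gp := by
    refine Subgroup.mem_center_iff.2 fun y => ?_
    have hy : y ∈ Subgroup.closure (presGen ActH.act.k relsG '' Set.Iio ActH.act.k) := by
      rw [closure_presGen]; trivial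
    induction hy using Subgroup.closure_induction with
    | mem z hz => obtain ⟨x, hx, rfl⟩ := hz; exact (hc x hx).eq.symm
    | one => simp
    | mul u v _ _ hu hv => exact ((Commute.mul_left (show Commute u g from hu) hv).eq)
    | inv u _ hu => exact (Commute.inv_left (show Commute u g from hu)).eq
  rcases IsSimpleGroup.eq_bot_or_eq_top_of_normal (Subgroup.center Gp) inferInstance with hb | hb
  · rw [hb] at hz; exact Subgroup.mem_bot.1 hz
  · have h1 : let' 0 * let' 1 = let' 1 * let' 0 :=
      Subgroup.mem_center_iff.1 (hb ▸ Subgroup.mem_top (let' 1) : let' 1 ∈ Subgroup.center Gp) (let' 0)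
    rw [letters_trp 1 (by decide)] at h1
    have h2 := (letters_fix (x := 0) (by decide) (gpt 1)).2
      (by rw [← letters_trp 0 (by decide)]; exact (commute_trp_iff _ _).1 h1)
    exact absurd h2 (by decide +kernel)

/-- The root reached by the tree from a point, and the image of another point. -/
def toRoot (q c : ℕ) : ℕ :=
  Nat.rec (motive := fun _ => ℕ → ℕ → ℕ) (fun _ c => c)
    (fun _ ih q c =>
      Bool.rec
        (Bool.rec c (ih (ActH.act.T (ActH.top.letter (ActH.top.rank q)) q)
            (ActH.act.T (ActH.top.letter (ActH.top.rank q)) c))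
          (Nat.blt (ActH.top.letter (ActH.top.rank q)) 9))
        c (Nat.beq q 0))
    64 q c

/-- The tree leads from this point to the first one. -/
def rooted (q : ℕ) : Bool := Nat.beq (toRoot q q) 0

/-- The transpositions at two points commute. -/
def com (q c : ℕ) : Bool := Nat.beq (ActH.act.T 0 (toRoot q c)) (toRoot q c)

theorem toRoot_spec (q : Pt) : ∃ g : Gp, ∀ c : Pt, ((g • c : Pt) : ℕ) = toRoot q c := by
  unfold toRoot
  generalize 64 = m
  induction m generalizing q with
  | zero => exact ⟨1, fun c => by rw [one_smul]; rfl⟩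
  | succ m ih =>
    rcases hb : Nat.beq q 0 with _ | _
    swap
    · exact ⟨1, fun c => by rw [one_smul]; simp [hb]⟩
    set s := ActH.top.letter (ActH.top.rank q) with hs
    rcases hl : Nat.blt s 9 with _ | _
    · exact ⟨1, fun c => by rw [one_smul]; simp [hb, ← hs, hl]⟩
    have hK : s < ActH.act.K := lt_of_lt_of_le (Nat.le_of_ble_eq_true hl) (Nat.le_add_right _ _)
    obtain ⟨g, hg⟩ := ih (let' s • q)
    refine ⟨g * let' s, fun c => ?_⟩
    rw [mul_smul, hg (let' s • c), let_smul hK, let_smul hK]
    simp [hb, ← hs, hl]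

theorem com_iff {q : Pt} (hq : rooted q = true) (c : Pt) : com q c = true ↔ trp q • c = c := by
  obtain ⟨g, hg⟩ := toRoot_spec q
  have h0 : g • q = pt0 := Fin.ext ((hg q).trans (Nat.eq_of_beq_eq_true hq))
  rw [← trp_fix_smul g q c, h0, ← gpt_zero,
    ← letters_fix (show 0 < 9 by decide), hg c]
  exact ⟨Nat.eq_of_beq_eq_true, fun h => by rw [com, h]; exact Nat.beq_refl _⟩

end

end CfsgLib.Spor.Fi22Out
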