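/-
An involution commuting with an element of order eleven is the first transposition.
-/
import Cfsg.Agent.Lib.Spor.Fi22Out.Points
import Mathlib.GroupTheory.Sylow

set_option autoImplicit false

namespace CfsgLib.Spor.Fi22Out

open CfsgLib.Spor.TC CfsgLib.Spor.Fi22 MulAction
open scoped Pointwise

noncomputable section

attribute [local instance] actionH

/-- The element of order eleven. -/
def eleven : Gp := el xw

theorem xw_below : ∀ x ∈ xw, x < ActH.act.K := by decide +kernel

theorem eleven_smul (c : Pt) : ((eleven • c : Pt) : ℕ) = ActH.act.wact xw c := el_smul xw_below c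

theorem eleven_pow_smul (m : ℕ) (c : Pt) : ((eleven ^ m • c : Pt) : ℕ) = ActH.act.wpow xw m c := by
  induction m with
  | zero => rw [pow_zero, one_smul]; rfl
  | succ m ih =>
    rw [pow_succ', mul_smul, eleven_smul, ih]
    rfl

theorem eleven_facts : (∀ x, x < 9 → ActH.act.wpow xw 11 (ptN x) = ptN x) ∧
    ActH.act.wact xw (ptN 6) ≠ ptN 6 ∧
    allFrom (fun c => !Nat.beq (ActH.act.wact xw c) c || Nat.beq c 0) 0 3510 = true := by decide +kernel

theorem eleven_pow : eleven ^ 11 = 1 :=
  commute_gens fun x hx => Fin.ext ((eleven_pow_smul 11 _).trans (eleven_facts.1 x hx))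

theorem orderOf_eleven : orderOf eleven = 11 := by
  have : Fact (Nat.Prime 11) := ⟨by norm_num⟩
  refine orderOf_eq_prime eleven_pow fun h => eleven_facts.2.1 ?_
  have h1 := eleven_smul (gpt 6)
  rw [h, one_smul] at h1
  exact h1.symm

theorem fixed_one (c : Pt) (h : eleven • c = c) : c = pt0 := by
  have h1 := allFrom_spec eleven_facts.2.2 c (Nat.zero_le _) (lt_of_lt_of_eq c.2 (Nat.zero_add _).symm)
  have h2 : ActH.act.wact xw c = c := (eleven_smul c).symm.trans (congrArg Fin.val h)
  rw [h2] at h1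
  simp only [Bool.or_eq_true, Bool.not_eq_true'] at h1
  rcases h1 with h1 | h1
  · exact absurd (Nat.beq_refl (c : ℕ)) (by rw [h1]; exact Bool.false_ne_true)
  · exact Fin.ext (Nat.eq_of_beq_eq_true h1)

/-- The pattern along the cycle of a point. -/
def sigB (q : ℕ) : Bool :=
  com q (ActH.act.wpow xw 1 q) && com q (ActH.act.wpow xw 2 q) && !com q (ActH.act.wpow xw 3 q) &&
    !com q (ActH.act.wpow xw 4 q) && !com q (ActH.act.wpow xw 5 q)

/-- The test of a neighbour. -/
def sigAt (q : ℕ) : Bool :=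
  !(Nat.beq (ActH.act.T 0 q) q && !Nat.beq q 0) || (rooted q && (!sigB q || memNat q sigSet))

theorem sig_all : allFrom sigAt 0 3510 = true := by decide +kernel

theorem sigSet_ok : sigSet.Nodup ∧ sigSet.length = 33 ∧
    (∀ q ∈ sigSet, q < 3510 ∧ (Nat.beq (ActH.act.T 0 q) q && !Nat.beq q 0 && rooted q && sigB q) = true ∧
      ∃ oc ∈ cycleRows, q ∈ oc.1) ∧
    ∀ oc ∈ cycleRows, ∀ k ∈ oc.1, ∀ q ∈ oc.1, ∃ i, i < 11 ∧ ActH.act.wpow xw i q = k := by decide +kernel

theorem nb_spec (q : Pt) (h1 : ActH.act.T 0 q = q) (h2 : (q : ℕ) ≠ 0) :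
    rooted q = true ∧ (sigB q = true → (q : ℕ) ∈ sigSet) := by
  have h := allFrom_spec sig_all q (Nat.zero_le _) (lt_of_lt_of_eq q.2 (Nat.zero_add _).symm)
  have e1 : Nat.beq (ActH.act.T 0 q) q = true := by rw [h1]; exact Nat.beq_refl _
  have e2 : Nat.beq q 0 = false := Bool.eq_false_iff.2 fun e => h2 (Nat.eq_of_beq_eq_true e)
  simp only [sigAt, e1, e2, Bool.not_false, Bool.and_self, Bool.not_true, Bool.false_or, Bool.and_eq_true,
    Bool.or_eq_true, Bool.not_eq_true'] at h
  refine ⟨h.1, fun hs => ?_⟩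
  rcases h.2 with h' | h'
  · rw [hs] at h'; exact absurd h' (by decide)
  · exact memNat_spec h'

/-- The letters whose points are to be reached. -/
def gensC : List ℕ := [0, 2, 3, 4, 5, 6, 7, 8]

/-- Points reached from known ones by known transpositions. -/
def closRec (rs : List (List ℕ × ℕ)) : List ℕ → Bool :=
  List.rec (motive := fun _ => List ℕ → Bool)
    (fun acc => allList (fun x => memNat (ptN x) acc) gensC)
    (fun row _ ih acc =>
      allBelow 9 row.1 && memNat (ActH.act.wact row.1 0) acc && memNat row.2 acc && Nat.blt row.2 ActH.act.n &&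
        ih (ActH.act.wact (row.1 ++ 0 :: row.1.reverse) row.2 :: acc))
    rs

theorem closRows_ok : cycleRows.all (fun oc => closRec oc.2 (0 :: oc.1)) = true := by decide +kernel

theorem closRec_spec {t : Gp} : ∀ (rs : List (List ℕ × ℕ)) (acc : List ℕ), closRec rs acc = true →
    (∀ k ∈ acc, ∀ p : Pt, (p : ℕ) = k → t • p = p) → ∀ x ∈ gensC, t • gpt x = gpt x := by
  intro rs
  induction rs with
  | nil =>
    intro acc h hacc x hx
    change allList (fun x => memNat (ptN x) acc) gensC = true at h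
    exact hacc _ (memNat_spec (allList_spec h x hx)) _ rfl
  | cons row rs ih =>
    intro acc h hacc
    change (allBelow 9 row.1 && memNat (ActH.act.wact row.1 0) acc && memNat row.2 acc &&
      Nat.blt row.2 ActH.act.n &&
      closRec rs (ActH.act.wact (row.1 ++ 0 :: row.1.reverse) row.2 :: acc)) = true at h
    simp only [Bool.and_eq_true] at h
    obtain ⟨⟨⟨⟨hb, hk⟩, hr⟩, hlt⟩, hrest⟩ := h
    have hu := allBelow_spec hb
    refine ih _ hrest fun k hk' p hp => ?_
    rcases List.mem_cons.1 hk' with rfl | hk'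
    swap
    · exact hacc k hk' p hp
    set kp : Pt := el row.1 • pt0
    have ekp : (kp : ℕ) = ActH.act.wact row.1 0 := el_smul (below_K hu) pt0
    have hall : ∀ y ∈ row.1 ++ 0 :: row.1.reverse, y < ActH.act.K := by
      intro y hy
      rcases List.mem_append.1 hy with h | h
      · exact below_K hu y h
      · rcases List.mem_cons.1 h with rfl | h
        · decide +kernel
        · exact below_K hu y (List.mem_reverse.1 h)
    set d := el (row.1 ++ 0 :: row.1.reverse)
    have hd : Commute t d := by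
      rw [show d = trp kp from (trp_word hu ekp.symm).symm]
      exact (commute_trp_iff t kp).2 (hacc _ (memNat_spec hk) kp ekp)
    have e : d • (d⁻¹ • p) = p := smul_inv_smul d p
    have hv : ((d⁻¹ • p : Pt) : ℕ) = row.2 := by
      have e2 : d • (⟨row.2, Nat.le_of_ble_eq_true hlt⟩ : Pt) = p := Fin.ext ((el_smul hall _).trans hp.symm)
      rw [← e2, inv_smul_smul]
    have := hacc _ (memNat_spec hr) _ hv
    calc t • p = (t * d) • (d⁻¹ • p) := by rw [mul_smul, e]
      _ = d • (t • (d⁻¹ • p)) := by rw [hd.eq, mul_smul]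
      _ = p := by rw [this, e]

theorem odd_fixed {α : Type*} [Fintype α] (f : α → α) (hf : Function.Involutive f) (h : Odd (Fintype.card α)) :
    ∃ a, f a = a := by
  classical
  have : Fact (Nat.Prime 2) := ⟨Nat.prime_two⟩
  exact Equiv.Perm.exists_fixed_point_of_prime (p := 2) (n := 1) (σ := hf.toPerm f)
    (by rw [← Nat.odd_iff.trans (by omega : Fintype.card α % 2 = 1 ↔ ¬ 2 ∣ Fintype.card α)]; exact h)
    (Equiv.ext fun x => by rw [pow_one, pow_two]; exact hf x)

/-- The last test: what fixes the points of the other generators. -/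
def lastAt (q : ℕ) : Bool :=
  !(allList (fun y => !Nat.beq q (ptN y) &&
    (Nat.beq (ActH.act.T y q) q == Nat.beq (ActH.act.T y (ptN 1)) (ptN 1))) gensC) ||
    (Nat.beq q (ptN 1) || Nat.beq q (ActH.act.T 0 (ptN 1)))

theorem last_all : allFrom lastAt 0 3510 = true := by decide +kernel

/-- Fixing the first point and the others' points leaves two elements. -/
theorem eq_of_fixes {t : Gp} (h : ∀ x ∈ gensC, t • gpt x = gpt x) : t = 1 ∨ t = zee := by
  have hC : ∀ y ∈ gensC, y < 9 := by decide
  have key : allList (fun y => !Nat.beq (t • gpt 1 : Pt) (ptN y) &&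
      (Nat.beq (ActH.act.T y (t • gpt 1 : Pt)) (t • gpt 1 : Pt) ==
        Nat.beq (ActH.act.T y (ptN 1)) (ptN 1))) gensC = true := by
    have hnot : ∀ y ∈ gensC, ptN y ≠ ptN 1 := by decide
    revert h hC hnot
    generalize gensC = l
    induction l with
    | nil => intros; rfl
    | cons y l ih =>
      intro h hC hnot
      show (_ && allList _ l) = true
      rw [ih (fun z hz => h z (List.mem_cons_of_mem _ hz)) (fun z hz => hC z (List.mem_cons_of_mem _ hz))
        (fun z hz => hnot z (List.mem_cons_of_mem _ hz)), Bool.and_true]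
      have hy := h y List.mem_cons_self
      have hy9 := hC y List.mem_cons_self
      simp only [Bool.and_eq_true, Bool.not_eq_true', beq_iff_eq]
      refine ⟨Bool.eq_false_iff.2 fun e => hnot y List.mem_cons_self ?_, ?_⟩
      · have e' : t • gpt 1 = t • gpt y := by rw [hy]; exact Fin.ext (Nat.eq_of_beq_eq_true e)
        exact (congrArg Fin.val (MulAction.injective t e')).symm
      · have e : trp (gpt y) • (t • gpt 1) = t • gpt 1 ↔ trp (gpt y) • gpt 1 = gpt 1 := by
          conv_lhs => rw [← hy, trp_fix_smul]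
        rw [Bool.eq_iff_iff]
        constructor
        · exact fun hb => by
            rw [show ActH.act.T y (ptN 1) = ptN 1 from
              (letters_fix hy9 (gpt 1)).2 (e.1 ((letters_fix hy9 _).1 (Nat.eq_of_beq_eq_true hb)))]
            exact Nat.beq_refl _
        · exact fun hb => by
            rw [show ActH.act.T y (t • gpt 1 : Pt) = (t • gpt 1 : Pt) from
              (letters_fix hy9 _).2 (e.2 ((letters_fix hy9 (gpt 1)).1 (Nat.eq_of_beq_eq_true hb)))]
            exact Nat.beq_refl _
  have h1 := allFrom_spec last_all (t • gpt 1 : Pt) (Nat.zero_le _) (lt_of_lt_of_eq (t • gpt 1 : Pt).2 (Nat.zero_add _).symm)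
  simp only [lastAt, key, Bool.not_true, Bool.false_or, Bool.or_eq_true] at h1
  have h0 : t • gpt 0 = gpt 0 := h 0 (by decide)
  have all9 : ∀ u : Gp, (∀ x ∈ gensC, u • gpt x = gpt x) → u • gpt 1 = gpt 1 → u = 1 := fun u hu hu1 =>
    commute_gens fun x hx => by
      rcases (by decide : ∀ z, z < 9 → z = 1 ∨ z ∈ gensC) x hx with rfl | hz
      · exact hu1
      · exact hu x hz
  rcases h1 with h1 | h1
  · exact Or.inl (all9 t h (Fin.ext (Nat.eq_of_beq_eq_true h1)))
  · refine Or.inr ?_
    have hz : ∀ x ∈ gensC, zee • gpt x = gpt x := fun x hx => by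
      rw [← trp_pt0, ← gpt_zero, ← letters_fix (show 0 < 9 by decide)]
      exact ((by decide +kernel : ∀ y ∈ gensC, ActH.act.T 0 (ptN y) = ptN y)) x hx
    have e := all9 (zee * t) (fun x hx => by rw [mul_smul, h x hx, hz x hx]) (by
      rw [mul_smul, ← trp_pt0, ← gpt_zero, ← letters_trp 0 (by decide)]
      refine Fin.ext ((let_smul (by decide +kernel) _).trans ?_)
      rw [Nat.eq_of_beq_eq_true h1]
      exact ActH.valid.inv (by decide +kernel) (gpt 1).2 |>.2)
    exact mul_left_cancel (e.trans zee_sq.symm)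

/-- An involution commuting with the element is the first transposition. -/
theorem eq_zee_of_commute {t : Gp} (ht : t * t = 1) (ht1 : t ≠ 1) (htx : Commute t eleven) : t = zee := by
  classical
  have hx0 : eleven • pt0 = pt0 := Fin.ext ((eleven_smul pt0).trans (by decide +kernel))
  have h0 : t • pt0 = pt0 := fixed_one _ (by rw [← mul_smul, ← htx.eq, mul_smul, hx0])
  have htz : Commute t zee := (commute_zee_iff t).2 h0
  have hnb : ∀ q : Pt, ActH.act.T 0 q = q ↔ trp pt0 • q = q := fun q => by
    rw [← gpt_zero]; exact letters_fix (by decide) q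
  have hn : ∀ {q : ℕ}, q ∈ sigSet → q < ActH.act.n := fun hq => (sigSet_ok.2.2.1 _ hq).1
  have hpow : ∀ (i : ℕ) (q : Pt), ((t • (eleven ^ i • q) : Pt) : ℕ) = ActH.act.wpow xw i (t • q : Pt) := by
    intro i q
    rw [← mul_smul, (htx.pow_right i).eq, mul_smul, eleven_pow_smul]
  have hmaps : ∀ q : Pt, (q : ℕ) ∈ sigSet → ((t • q : Pt) : ℕ) ∈ sigSet := by
    intro q hq
    have h := (sigSet_ok.2.2.1 _ hq).2.1
    simp only [Bool.and_eq_true, Bool.not_eq_true'] at h
    obtain ⟨⟨⟨h1, h2⟩, h3⟩, h4⟩ := h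
    have e1 : ActH.act.T 0 (t • q : Pt) = (t • q : Pt) := by
      have := (hnb q).1 (Nat.eq_of_beq_eq_true h1)
      rw [hnb, trp_pt0, ← mul_smul, ← htz.eq, mul_smul, ← trp_pt0, this]
    have e2 : ((t • q : Pt) : ℕ) ≠ 0 := fun e => by
      have e' : q = pt0 := MulAction.injective t ((Fin.ext e : (t • q : Pt) = pt0).trans h0.symm)
      rw [e'] at h2
      exact absurd h2 (by decide)
    obtain ⟨hr, hsig⟩ := nb_spec _ e1 e2
    refine hsig ?_
    have hequiv : ∀ r : Pt, com (t • q : Pt) (t • r : Pt) = com q r := fun r => by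
      rw [Bool.eq_iff_iff, com_iff hr, com_iff h3, trp_fix_smul]
    have key : ∀ i, com (t • q : Pt) (ActH.act.wpow xw i (t • q : Pt)) = com q (ActH.act.wpow xw i q) := fun i => by
      rw [← hpow, ← eleven_pow_smul, hequiv]
    rw [sigB] at h4 ⊢
    rwa [key 1, key 2, key 3, key 4, key 5]
  -- an involution on an odd set fixes a point
  obtain ⟨q, hq, hfq⟩ : ∃ q : Pt, (q : ℕ) ∈ sigSet ∧ t • q = q := by
    have hcard : Fintype.card {q : Pt // (q : ℕ) ∈ sigSet} = 33 := by
      rw [← sigSet_ok.2.1, ← List.toFinset_card_of_nodup sigSet_ok.1, ← Fintype.card_coe sigSet.toFinset]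
      exact Fintype.card_congr
        { toFun := fun q => ⟨(q.1 : ℕ), List.mem_toFinset.2 q.2⟩
          invFun := fun q => ⟨⟨q.1, hn (List.mem_toFinset.1 q.2)⟩, List.mem_toFinset.1 q.2⟩
          left_inv := fun q => rfl
          right_inv := fun q => rfl }
    obtain ⟨⟨q, hq⟩, e⟩ := odd_fixed (fun q : {q : Pt // (q : ℕ) ∈ sigSet} => ⟨t • q.1, hmaps q.1 q.2⟩)
      (fun q => Subtype.ext (show t • (t • q.1) = q.1 by rw [← mul_smul, ht, one_smul]))
      (by rw [hcard]; decide)
    exact ⟨q, hq, congrArg Subtype.val e⟩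
  obtain ⟨oc, hoc, hqo⟩ := (sigSet_ok.2.2.1 _ hq).2.2
  have hacc : ∀ k ∈ 0 :: oc.1, ∀ p : Pt, (p : ℕ) = k → t • p = p := by
    intro k hk p hp
    rcases List.mem_cons.1 hk with rfl | hk
    · rwa [show p = pt0 from Fin.ext hp]
    obtain ⟨i, -, hi⟩ := sigSet_ok.2.2.2 oc hoc k hk q hqo
    rw [show p = eleven ^ i • q from Fin.ext (hp.trans ((eleven_pow_smul i q).trans hi).symm), ← mul_smul,
      (htx.pow_right i).eq, mul_smul, hfq]
  exact (eq_of_fixes (closRec_spec oc.2 (0 :: oc.1) (List.all_eq_true.1 closRows_ok oc hoc) hacc)).resolve_left ht1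

theorem card_gp_factor : (Nat.card Gp).factorization 11 = 1 := by
  rw [show Nat.card Gp = 64561751654400 from card_act, show (64561751654400 : ℕ) = 11 * 5869250150400 by norm_num,
    Nat.factorization_mul (by norm_num) (by norm_num), Finsupp.add_apply,
    Nat.Prime.factorization_self (by norm_num), Nat.factorization_eq_zero_of_not_dvd (by norm_num)]

/-- An involution whose centralizer has order divisible by eleven is a transposition. -/
theorem isTrp_of_eleven {t : Gp} (ht : t * t = 1) (ht1 : t ≠ 1)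
    (h11 : 11 ∣ Nat.card (Subgroup.centralizer ({t} : Set Gp))) : ∃ p : Pt, t = trp p := by
  have : Finite Gp := Nat.finite_of_card_ne_zero (ne_of_eq_of_ne card_act (by norm_num))
  have : Fact (Nat.Prime 11) := ⟨by norm_num⟩
  obtain ⟨⟨s, hs⟩, hso⟩ := exists_prime_orderOf_dvd_card' 11 h11
  have hso' : orderOf s = 11 := by rw [← hso, ← Subgroup.orderOf_coe]
  have hcard : ∀ u : Gp, orderOf u = 11 → Nat.card (Subgroup.zpowers u) = 11 ^ (Nat.card Gp).factorization 11 :=
    fun u hu => by rw [Nat.card_zpowers, hu, card_gp_factor, pow_one]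
  obtain ⟨g, hg⟩ := MulAction.exists_smul_eq Gp (Sylow.ofCard _ (hcard _ orderOf_eleven))
    (Sylow.ofCard _ (hcard _ hso'))
  have hg' : MulAut.conj g • Subgroup.zpowers eleven = Subgroup.zpowers s := congrArg Sylow.toSubgroup hg
  have hmem : g * eleven * g⁻¹ ∈ Subgroup.zpowers s := by
    rw [← hg']
    exact Subgroup.smul_mem_pointwise_smul _ _ _ (Subgroup.mem_zpowers eleven)
  obtain ⟨k, hk⟩ := hmem
  have hts : Commute t (g * eleven * g⁻¹) := by
    rw [← hk]
    exact (show Commute t s from (Subgroup.mem_centralizer_singleton_iff.1 hs).symm).zpow_right k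
  have h3 : Commute (g⁻¹ * t * g) eleven := by
    show g⁻¹ * t * g * eleven = eleven * (g⁻¹ * t * g)
    calc g⁻¹ * t * g * eleven = g⁻¹ * (t * (g * eleven * g⁻¹)) * g := by group
      _ = eleven * (g⁻¹ * t * g) := by rw [hts.eq]; group
  have hp := eq_zee_of_commute (t := g⁻¹ * t * g)
    (by rw [show g⁻¹ * t * g * (g⁻¹ * t * g) = g⁻¹ * (t * t) * g by group, ht, mul_one, inv_mul_cancel])
    (fun h => ht1 (by rw [show t = g * (g⁻¹ * t * g) * g⁻¹ by group, h, mul_one, mul_inv_cancel])) h3
  exact ⟨g • pt0, by rw [← conj_trp, trp_pt0, ← hp]; group⟩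

end

end CfsgLib.Spor.Fi22Out
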