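/-
Transitivity on the candidates of four generators, and the order of the stabilizer of five points.
-/
import Cfsg.Agent.Lib.Spor.Fi22Out.Tuples

set_option autoImplicit false

namespace CfsgLib.Spor.Fi22Out

open CfsgLib.Spor.TC CfsgLib.Spor.Fi22 MulAction

noncomputable section

attribute [local instance] actionH

/-- The elements keeping the points of some letters. -/
def keepSub (pre : List ℕ) : Subgroup Gp where
  carrier := {g | Keeps g pre}
  one_mem' := keeps_one pre
  mul_mem' := fun hg hh => hg.mul hh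
  inv_mem' := fun {g} hg y hy => by rw [inv_smul_eq_iff, hg y hy]

theorem keepSub_cand {pre : List ℕ} {x : ℕ} (hle : ∀ y ∈ pre, y < 9) (hne : ∀ y ∈ pre, ptN y ≠ ptN x) {g : Gp}
    (hg : Keeps g pre) : cand pre x (g • gpt x : Pt) = true :=
  cand_of_fix (β := MulAut.conj g) hle hne
    (fun y hy => by rw [letters_trp y (hle y hy), MulAut.conj_apply, conj_trp, hg y hy])
    (by rw [MulAut.conj_apply, conj_trp])

theorem card_step {pre : List ℕ} {x n : ℕ} (L : List ℕ) (hnd : L.Nodup) (hlen : L.length = n)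
    (hle : ∀ y ∈ pre, y < 9) (hne : ∀ y ∈ pre, ptN y ≠ ptN x)
    (hL : ∀ q : Pt, cand pre x q = true → (q : ℕ) ∈ L)
    (hreach : ∀ k ∈ L, ∃ g : Gp, Keeps g pre ∧ ((g • gpt x : Pt) : ℕ) = k) :
    Nat.card (keepSub (x :: pre)) * n = Nat.card (keepSub pre) := by
  classical
  have horb : Nat.card (orbit (keepSub pre) (gpt x)) = n := by
    rw [← hlen, ← List.toFinset_card_of_nodup hnd, ← Set.ncard_coe_finset, ← Nat.card_coe_set_eq]
    refine Nat.card_congr (Equiv.ofBijective (fun q => ⟨((q : Pt) : ℕ), ?_⟩) ⟨fun q r e => ?_, fun k => ?_⟩)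
    · obtain ⟨⟨g, hg⟩, e⟩ := q.2
      rw [Finset.mem_coe, List.mem_toFinset, ← e]
      exact hL _ (keepSub_cand hle hne hg)
    · exact Subtype.ext (Fin.ext (congrArg Subtype.val e))
    · obtain ⟨g, hg, e⟩ := hreach k (List.mem_toFinset.1 k.2)
      exact ⟨⟨g • gpt x, ⟨⟨g, hg⟩, rfl⟩⟩, Subtype.ext e⟩
  have hst : Nat.card (stabilizer (keepSub pre) (gpt x)) = Nat.card (keepSub (x :: pre)) :=
    Nat.card_congr
      { toFun := fun g => ⟨g.1.1, fun y hy => by
          rcases List.mem_cons.1 hy with rfl | hy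
          · exact g.2
          · exact g.1.2 y hy⟩
        invFun := fun g => ⟨⟨g.1, fun y hy => g.2 y (List.mem_cons_of_mem _ hy)⟩, g.2 x List.mem_cons_self⟩
        left_inv := fun g => rfl
        right_inv := fun g => rfl }
  rw [← horb, ← hst, mul_comm, ← Nat.card_prod]
  exact Nat.card_congr (orbitProdStabilizerEquivGroup (keepSub pre) (gpt x))

theorem card_first : Nat.card (keepSub [0]) * 3510 = 64561751654400 := by
  have hst : Nat.card (stabilizer Gp pt0) = Nat.card (keepSub [0]) :=
    Nat.card_congr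
      { toFun := fun g => ⟨g.1, fun y hy => by rw [List.mem_singleton.1 hy, gpt_zero]; exact g.2⟩
        invFun := fun g => ⟨g.1, by have := g.2 0 List.mem_cons_self; rwa [gpt_zero] at this⟩
        left_inv := fun g => rfl
        right_inv := fun g => rfl }
  have ho : Nat.card (orbit Gp pt0) = 3510 := by
    rw [show orbit Gp pt0 = Set.univ from Set.eq_univ_of_forall fun p => trans_pt p, Nat.card_coe_set_eq,
      Set.ncard_univ, Nat.card_fin]
    rfl
  rw [← hst, ← ho, mul_comm, ← Nat.card_prod, ← card_act]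
  exact Nat.card_congr (orbitProdStabilizerEquivGroup Gp pt0)

/-- The points reached in step 0. -/
def list0 : List ℕ := reachRec gens0 rows0 [ptN 6]

theorem ok0 : gens0.all (genOK [0]) = true ∧ allFrom (candAt [0] 6 list0) 0 3510 = true ∧
    list0.Nodup ∧ list0.length = 693 := by decide +kernel

theorem trans0 (q : Pt) (hq : cand [0] 6 q = true) : ∃ g : Gp, Keeps g [0] ∧ g • gpt 6 = q :=
  trans_of_check (by decide) ok0.1 (scan_all ok0.2.1) q hq

theorem card0 : Nat.card (keepSub (6 :: [0])) * 693 = Nat.card (keepSub [0]) := by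
  refine card_step list0 ok0.2.2.1 ok0.2.2.2 (by decide) (by decide) (fun q hq => ?_)
    (reachRec_spec (by decide) (List.all_eq_true.1 ok0.1) rows0 [ptN 6]
      fun k hk => ⟨1, keeps_one _, by rw [one_smul, List.mem_singleton.1 hk]; rfl⟩)
  have h := scan_all ok0.2.1 q q.2
  simp only [candAt, hq, Bool.not_true, Bool.false_or] at h
  exact memNat_spec h

/-- The points reached in step 1. -/
def list1 : List ℕ := reachRec gens1 rows1 [ptN 1]

theorem ok1 : gens1.all (genOK [6, 0]) = true ∧ allFrom (candAt [6, 0] 1 list1) 0 3510 = true ∧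
    list1.Nodup ∧ list1.length = 512 := by decide +kernel

theorem trans1 (q : Pt) (hq : cand [6, 0] 1 q = true) : ∃ g : Gp, Keeps g [6, 0] ∧ g • gpt 1 = q :=
  trans_of_check (by decide) ok1.1 (scan_all ok1.2.1) q hq

theorem card1 : Nat.card (keepSub (1 :: [6, 0])) * 512 = Nat.card (keepSub [6, 0]) := by
  refine card_step list1 ok1.2.2.1 ok1.2.2.2 (by decide) (by decide) (fun q hq => ?_)
    (reachRec_spec (by decide) (List.all_eq_true.1 ok1.1) rows1 [ptN 1]
      fun k hk => ⟨1, keeps_one _, by rw [one_smul, List.mem_singleton.1 hk]; rfl⟩)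
  have h := scan_all ok1.2.1 q q.2
  simp only [candAt, hq, Bool.not_true, Bool.false_or] at h
  exact memNat_spec h

/-- The points reached in step 2. -/
def list2 : List ℕ := reachRec gens2 rows2 [ptN 2]

theorem ok2 : gens2.all (genOK [1, 6, 0]) = true ∧ allFrom (candAt [1, 6, 0] 2 list2) 0 3510 = true ∧
    list2.Nodup ∧ list2.length = 135 := by decide +kernel

theorem trans2 (q : Pt) (hq : cand [1, 6, 0] 2 q = true) : ∃ g : Gp, Keeps g [1, 6, 0] ∧ g • gpt 2 = q :=
  trans_of_check (by decide) ok2.1 (scan_all ok2.2.1) q hq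

theorem card2 : Nat.card (keepSub (2 :: [1, 6, 0])) * 135 = Nat.card (keepSub [1, 6, 0]) := by
  refine card_step list2 ok2.2.2.1 ok2.2.2.2 (by decide) (by decide) (fun q hq => ?_)
    (reachRec_spec (by decide) (List.all_eq_true.1 ok2.1) rows2 [ptN 2]
      fun k hk => ⟨1, keeps_one _, by rw [one_smul, List.mem_singleton.1 hk]; rfl⟩)
  have h := scan_all ok2.2.1 q q.2
  simp only [candAt, hq, Bool.not_true, Bool.false_or] at h
  exact memNat_spec h

/-- The points reached in step 3. -/
def list3 : List ℕ := reachRec gens3 rows3 [ptN 5]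

theorem ok3 : gens3.all (genOK [2, 1, 6, 0]) = true ∧ allFrom (candAt [2, 1, 6, 0] 5 list3) 0 3510 = true ∧
    list3.Nodup ∧ list3.length = 16 := by decide +kernel

theorem trans3 (q : Pt) (hq : cand [2, 1, 6, 0] 5 q = true) : ∃ g : Gp, Keeps g [2, 1, 6, 0] ∧ g • gpt 5 = q :=
  trans_of_check (by decide) ok3.1 (scan_all ok3.2.1) q hq

theorem card3 : Nat.card (keepSub (5 :: [2, 1, 6, 0])) * 16 = Nat.card (keepSub [2, 1, 6, 0]) := by
  refine card_step list3 ok3.2.2.1 ok3.2.2.2 (by decide) (by decide) (fun q hq => ?_)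
    (reachRec_spec (by decide) (List.all_eq_true.1 ok3.1) rows3 [ptN 5]
      fun k hk => ⟨1, keeps_one _, by rw [one_smul, List.mem_singleton.1 hk]; rfl⟩)
  have h := scan_all ok3.2.1 q q.2
  simp only [candAt, hq, Bool.not_true, Bool.false_or] at h
  exact memNat_spec h

/-- The five fixed letters. -/
def preF : List ℕ := [5, 2, 1, 6, 0]

theorem arith (a b c d e : ℕ) (h0 : a * 3510 = 64561751654400) (h1 : b * 693 = a) (h2 : c * 512 = b)
    (h3 : d * 135 = c) (h4 : e * 16 = d) : e = 24 := by
  subst h1 h2 h3 h4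
  have hm : e * 2690072985600 = 64561751654400 := by rw [← h0]; ring
  omega

theorem card_preF : Nat.card (keepSub preF) = 24 := arith _ _ _ _ _ card_first card0 card1 card2 card3

end

end CfsgLib.Spor.Fi22Out
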