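/-
The outer automorphism group of the presented group on nine generators has order two.
-/
import Cfsg.Agent.Lib.Spor.Fi22Out.Eleven
import Cfsg.Agent.Lib.Spor.Fi22Out.Steps
import Cfsg.Agent.Lib.Spor.TC.Strict
import Cfsg.Prelude.Def_KGroupFacts

set_option autoImplicit false

namespace CfsgLib.Spor.Fi22Out

open CfsgLib.Spor.TC CfsgLib.Spor.Fi22 MulAction

noncomputable section

attribute [local instance] actionH

/-! ### The second generating tuple -/

/-- A point of the second tuple, as a number. -/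
def qN (x : ℕ) : ℕ := ptsR.getD x 0

theorem qN_lt (x : ℕ) : qN x < ActH.act.n := by
  have h : ∀ p ∈ ptsR, p < 3510 := by decide
  unfold qN
  by_cases hx : x < ptsR.length
  · rw [List.getD_eq_getElem _ _ hx]; exact h _ (List.getElem_mem hx)
  · rw [List.getD_eq_default _ _ (Nat.not_lt.1 hx)]; exact Nat.lt_of_sub_pos (by decide +kernel)

/-- A point of the second tuple. -/
def qpt (x : ℕ) : Pt := ⟨qN x, qN_lt x⟩

/-- The images of the generators. -/
def img (x : ℕ) : Gp := if x < 9 then trp (qpt x) else 1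

/-- The transposition of a point of the second tuple, acting. -/
def dact (x c : ℕ) : ℕ := ActH.act.wactS (wordsR.getD x [] ++ 0 :: (wordsR.getD x []).reverse) c

/-- A word in those transpositions, acting. -/
def dwact (w : List ℕ) (c : ℕ) : ℕ := List.rec (motive := fun _ => ℕ) c (fun a _ ih => strict ih (dact a)) w

/-- A power of such a word, acting. -/
def dwpow (w : List ℕ) (m c : ℕ) : ℕ := Nat.rec (motive := fun _ => ℕ) c (fun _ ih => strict ih (dwact w)) m

theorem words_ok : (∀ x, x < 9 → allBelow 9 (wordsR.getD x []) = true ∧ ActH.act.wact (wordsR.getD x []) 0 = qN x) ∧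
    ∀ r ∈ relsG, (∀ a ∈ r.1, a < 9) ∧ ∀ y, y < 9 → dwpow r.1 r.2 (ptN y) = ptN y := by decide +kernel

theorem img_smul {x : ℕ} (hx : x < 9) (c : Pt) : ((img x • c : Pt) : ℕ) = dact x c := by
  obtain ⟨hb, hp⟩ := words_ok.1 x hx
  have hu := allBelow_spec hb
  rw [img, if_pos hx, trp_word (p := qpt x) hu hp, el_smul]
  · exact (Act.wactS_eq _ _ _).symm
  intro z hz
  rcases List.mem_append.1 hz with h | h
  · exact below_K hu z h
  · rcases List.mem_cons.1 h with rfl | h
    · decide +kernel
    · exact below_K hu z (List.mem_reverse.1 h)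

theorem ev_img_smul : ∀ {w : List ℕ}, (∀ a ∈ w, a < 9) → ∀ c : Pt, ((ev img w • c : Pt) : ℕ) = dwact w c := by
  intro w
  induction w with
  | nil => intro _ c; rw [show ev img [] = 1 from rfl, one_smul]; rfl
  | cons a w ih =>
    intro h c
    rw [ev_cons, mul_smul, img_smul (h a List.mem_cons_self), ih fun b hb => h b (List.mem_cons_of_mem _ hb)]
    exact (strict_eq _ _).symm

theorem sat_img : Sat ActH.act.k relsG img := by
  refine ⟨fun x => ?_, fun x hx => ?_, fun r hr => ?_⟩
  · unfold img
    split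
    · exact trp_sq _
    · exact one_mul 1
  · rw [img, if_neg (Nat.not_lt.2 (show 9 ≤ x from hx))]
  · obtain ⟨hlt, hfix⟩ := words_ok.2 r hr
    refine commute_gens fun y hy => Fin.ext ?_
    have hp : ∀ (m : ℕ) (c : Pt), (((ev img r.1) ^ m • c : Pt) : ℕ) = dwpow r.1 m c := by
      intro m
      induction m with
      | zero => intro c; rw [pow_zero, one_smul]; rfl
      | succ m ih => intro c; rw [pow_succ', mul_smul, ev_img_smul hlt, ih]; exact (strict_eq _ _).symm
    exact (hp r.2 (gpt y)).trans (hfix y hy)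

/-- The endomorphism onto the second tuple. -/
def sigmaHom : Gp →* Gp := presHom sat_img

theorem sigmaHom_gen {x : ℕ} (hx : x < 9) : sigmaHom (trp (gpt x)) = trp (qpt x) := by
  rw [← gens_eq x hx, sigmaHom, presHom_gen, img, if_pos hx]

theorem sigmaHom_bij : Function.Bijective sigmaHom := by
  have : Finite Gp := Nat.finite_of_card_ne_zero (ne_of_eq_of_ne card_act (by norm_num))
  have := simple_act
  have hinj : Function.Injective sigmaHom := by
    rw [← MonoidHom.ker_eq_bot_iff]
    refine (IsSimpleGroup.eq_bot_or_eq_top_of_normal sigmaHom.ker inferInstance).resolve_right fun h => ?_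
    exact trp_ne_one (qpt 0) ((sigmaHom_gen (x := 0) (by decide)).symm.trans
      (MonoidHom.mem_ker.1 (h ▸ Subgroup.mem_top (trp (gpt 0)))))
  exact ⟨hinj, Finite.injective_iff_surjective.1 hinj⟩

/-- The outer automorphism. -/
def sigma : MulAut Gp := MulEquiv.ofBijective sigmaHom sigmaHom_bij

theorem sigma_gen {x : ℕ} (hx : x < 9) : sigma (let' x) = trp (qpt x) := by
  rw [letters_trp x hx]; exact sigmaHom_gen hx

theorem aut_ext {β γ : MulAut Gp} (h : ∀ x, x < 9 → β (let' x) = γ (let' x)) : β = γ := by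
  refine MulEquiv.ext fun g => ?_
  have hg : g ∈ Subgroup.closure (presGen ActH.act.k relsG '' Set.Iio ActH.act.k) := by
    rw [closure_presGen]; trivial
  induction hg using Subgroup.closure_induction with
  | mem z hz =>
    obtain ⟨x, hx, rfl⟩ := hz
    have e := h x hx
    rwa [let', Act.letters_of_lt hx] at e
  | one => rw [map_one, map_one]
  | mul u v _ _ hu hv => rw [map_mul, map_mul, hu, hv]
  | inv u _ hu => rw [map_inv, map_inv, hu]

/-! ### The last step -/

/-- The last four letters, in the order of the tables. -/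
def lastF : List ℕ := [8, 7, 3, 4]

/-- Two candidates are related as the generators are. -/
def compat (x y qx qy : ℕ) : Bool :=
  !Nat.beq qx qy && (com qx qy == Nat.beq (ActH.act.T x (ptN y)) (ptN y))

/-- Every tuple of candidates with the pattern of the generators is listed. -/
def finalCheck : Bool :=
  cands8.all fun a => cands7.all fun b => !compat 8 7 a b || cands3.all fun c =>
    !(compat 8 3 a c && compat 7 3 b c) || cands4.all fun d =>
      !(compat 8 4 a d && compat 7 4 b d && compat 3 4 c d) ||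
        ((rowsP ++ rowsR).map Prod.snd).any fun l => beqWord l [a, b, c, d]

/-- The test that a point is not a candidate, or is in the lists. -/
def scanF (q : ℕ) : Bool :=
  candAt preF 8 cands8 q && candAt preF 7 cands7 q && candAt preF 3 cands3 q && candAt preF 4 cands4 q

/-- A product of transpositions, acting. -/
def prodAct (ks : List ℕ) (c : ℕ) : ℕ :=
  List.rec (motive := fun _ => ℕ) c
    (fun i _ ih => ActH.act.wact (gensF.getD i [] ++ 0 :: (gensF.getD i []).reverse) ih) ks

theorem final_ok : finalCheck = true ∧ allFrom scanF 0 3510 = true := by decide +kernel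

theorem final_rows_ok : gensF.all (genOK preF) = true ∧
    (∀ row ∈ rowsP, (∀ i ∈ row.1, i < gensF.length) ∧
      lastF.map (fun x => prodAct row.1 (ptN x)) = row.2) ∧
    (∀ row ∈ rowsR, (∀ i ∈ row.1, i < gensF.length) ∧
      lastF.map (fun x => prodAct row.1 (qN x)) = row.2) ∧
    (∀ q ∈ cands8 ++ cands7 ++ cands3 ++ cands4, rooted q = true) ∧
    (∀ x ∈ preF, qN x = ptN x) ∧ (∀ x, x < 9 → x ∈ preF ∨ x ∈ lastF) ∧
    rowsP.length = 24 ∧ (rowsP.map Prod.snd).Nodup ∧ lastF.map qN ∉ rowsP.map Prod.snd := by decide +kernel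

theorem prod_spec : ∀ (ks : List ℕ), (∀ i ∈ ks, i < gensF.length) →
    ∃ g : Gp, Keeps g preF ∧ ∀ c : Pt, ((g • c : Pt) : ℕ) = prodAct ks c := by
  intro ks
  induction ks with
  | nil => exact fun _ => ⟨1, keeps_one _, fun c => by rw [one_smul]; rfl⟩
  | cons i ks ih =>
    intro h
    obtain ⟨g, hg, hgc⟩ := ih fun j hj => h j (List.mem_cons_of_mem _ hj)
    have hi := h i List.mem_cons_self
    obtain ⟨d, hd, hdc⟩ := genOK_spec (pre := preF) (by decide) (List.all_eq_true.1 final_rows_ok.1 _ (by
      rw [List.getD_eq_getElem _ _ hi]; exact List.getElem_mem hi) : genOK preF (gensF.getD i []) = true)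
    exact ⟨d * g, hd.mul hg, fun c => by rw [mul_smul, hdc, hgc]; rfl⟩

theorem last_step {β : MulAut Gp} (hβ : Fixes β preF) :
    ∃ g : Gp, MulAut.conj g * β = 1 ∨ MulAut.conj g * β = sigma := by
  have hle : ∀ y ∈ preF, y < 9 := by decide
  have hz : β zee = zee := by
    simpa [let', Act.letters_of_lt (show 0 < ActH.act.k by decide +kernel), zee] using hβ 0 (by decide)
  choose q hq using fun x => image_trp hz (gpt x)
  have hne : ∀ x ∈ [8, 7, 3, 4], ∀ y ∈ preF, ptN y ≠ ptN x := by decide
  have hc : ∀ x ∈ [8, 7, 3, 4], cand preF x (q x) = true := fun x hx => cand_of_fix hle (hne x hx) hβ (hq x)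
  have hscan := fun x : ℕ => scan_all final_ok.2 (q x) (q x).2
  simp only [scanF, candAt, Bool.and_eq_true, Bool.or_eq_true, Bool.not_eq_true'] at hscan
  have m8 : (q 8 : ℕ) ∈ cands8 := memNat_spec ((hscan 8).1.1.1.resolve_left (by rw [hc 8 (by decide)]; decide))
  have m7 : (q 7 : ℕ) ∈ cands7 := memNat_spec ((hscan 7).1.1.2.resolve_left (by rw [hc 7 (by decide)]; decide))
  have m3 : (q 3 : ℕ) ∈ cands3 := memNat_spec ((hscan 3).1.2.resolve_left (by rw [hc 3 (by decide)]; decide))
  have m4 : (q 4 : ℕ) ∈ cands4 := memNat_spec ((hscan 4).2.resolve_left (by rw [hc 4 (by decide)]; decide))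
  have hroot : ∀ x ∈ [8, 7, 3, 4], rooted (q x) = true := by
    simp only [List.mem_cons, List.not_mem_nil, or_false]
    rintro x (rfl | rfl | rfl | rfl) <;> refine final_rows_ok.2.2.2.1 _ ?_ <;>
      simp only [List.mem_append] <;> tauto
  have d : ∀ x y, x ∈ [8, 7, 3, 4] → y ∈ [8, 7, 3, 4] → x ≠ y → compat x y (q x) (q y) = true := by
    intro x y hx hy hxy'
    have hxy : ptN x ≠ ptN y :=
      (by decide : ∀ a ∈ [8, 7, 3, 4], ∀ b ∈ [8, 7, 3, 4], a ≠ b → ptN a ≠ ptN b) x hx y hy hxy'
    simp only [compat, Bool.and_eq_true, Bool.not_eq_true', beq_iff_eq]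
    refine ⟨Bool.eq_false_iff.2 fun e => hxy ?_, ?_⟩
    · have e' : q x = q y := Fin.ext (Nat.eq_of_beq_eq_true e)
      have := hq x
      rw [e', ← hq y] at this
      exact congrArg Fin.val (trp_inj (β.injective this))
    · have hx' : x < 9 := (by decide : ∀ z ∈ [8, 7, 3, 4], z < 9) x hx
      rw [Bool.eq_iff_iff, com_iff (hroot x hx), ← commute_trp_iff, ← hq x, ← hq y]
      constructor
      · intro h
        have h' := (commute_trp_iff _ _).1 (by simpa using h.map β.symm.toMonoidHom : Commute (trp (gpt x)) (trp (gpt y)))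
        rw [show ActH.act.T x (ptN y) = ptN y from (letters_fix hx' (gpt y)).2 h']
        exact Nat.beq_refl _
      · intro h
        have h' := (letters_fix hx' (gpt y)).1 (Nat.eq_of_beq_eq_true h)
        exact ((commute_trp_iff _ _).2 h').map β.toMonoidHom
  have hf := final_ok.1
  simp only [finalCheck, List.all_eq_true, Bool.or_eq_true, Bool.not_eq_true'] at hf
  have h7 := (hf _ m8 _ m7).resolve_left (by rw [d 8 7 (by decide) (by decide) (by decide)]; decide)
  have h3 := (h7 _ m3).resolve_left (by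
    rw [d 8 3 (by decide) (by decide) (by decide), d 7 3 (by decide) (by decide) (by decide)]; decide)
  have h4 := (h3 _ m4).resolve_left (by
    rw [d 8 4 (by decide) (by decide) (by decide), d 7 4 (by decide) (by decide) (by decide),
      d 3 4 (by decide) (by decide) (by decide)]
    decide)
  obtain ⟨l, hl, hbeq⟩ := List.any_eq_true.1 h4
  obtain ⟨row, hrow, rfl⟩ := List.mem_map.1 hl
  have hl' := beqWord_iff hbeq
  have main : ∀ (tgt : ℕ → Pt) (γ : MulAut Gp), (∀ x, x < 9 → γ (let' x) = trp (tgt x)) →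
      (∀ x ∈ preF, tgt x = gpt x) → (∀ i ∈ row.1, i < gensF.length) →
      lastF.map (fun x => prodAct row.1 (tgt x)) = row.2 → ∃ g : Gp, MulAut.conj g * β = γ := by
    intro tgt γ hγ hpre hlt heq
    obtain ⟨g, hg, hgc⟩ := prod_spec row.1 hlt
    rw [hl'] at heq
    simp only [lastF, List.map_cons, List.map_nil, List.cons.injEq, and_true] at heq
    refine ⟨g⁻¹, aut_ext fun x hx => ?_⟩
    rw [MulAut.mul_apply, hγ x hx]
    rcases final_rows_ok.2.2.2.2.2.1 x hx with hxp | hxp
    · rw [hβ x hxp, letters_trp x hx, MulAut.conj_apply, conj_trp, hpre x hxp]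
      congr 1
      rw [inv_smul_eq_iff, hg x hxp]
    · rw [letters_trp x hx, hq, MulAut.conj_apply, conj_trp]
      congr 1
      rw [inv_smul_eq_iff]
      refine Fin.ext ?_
      rw [hgc]
      simp only [lastF, List.mem_cons, List.not_mem_nil, or_false] at hxp
      rcases hxp with rfl | rfl | rfl | rfl
      exacts [heq.1.symm, heq.2.1.symm, heq.2.2.1.symm, heq.2.2.2.symm]
  rcases List.mem_append.1 hrow with hP | hR
  · obtain ⟨hlt, heq⟩ := final_rows_ok.2.1 row hP
    obtain ⟨g, hg⟩ := main gpt 1 (fun x hx => letters_trp x hx) (fun _ _ => rfl) hlt heq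
    exact ⟨g, Or.inl hg⟩
  · obtain ⟨hlt, heq⟩ := final_rows_ok.2.2.1 row hR
    obtain ⟨g, hg⟩ := main qpt sigma (fun x hx => sigma_gen hx)
      (fun x hx => Fin.ext (final_rows_ok.2.2.2.2.1 x hx)) hlt heq
    exact ⟨g, Or.inr hg⟩

theorem image_zee (α : MulAut Gp) : ∃ p : Pt, α zee = trp p := by
  have hc : Subgroup.centralizer ({α zee} : Set Gp) = subH.map α.toMonoidHom := by
    rw [← centralizer_zee]
    ext u
    rw [Subgroup.mem_map_equiv, Subgroup.mem_centralizer_singleton_iff, Subgroup.mem_centralizer_singleton_iff]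
    exact ⟨fun h => α.injective (by simpa using h), fun h => by simpa using congrArg α h⟩
  refine isTrp_of_eleven (by rw [← map_mul, zee_sq, map_one]) (fun h => zee_ne (α.injective (by rw [h, map_one]))) ?_
  rw [hc, Subgroup.card_map_of_injective α.injective]
  have h : subH.index * Nat.card subH = Nat.card Gp := subH.index_mul_card
  rw [card_act] at h
  have hd : 11 ∣ subH.index * Nat.card subH := h ▸ (by norm_num : 11 ∣ 64561751654400)
  refine ((Nat.Prime.dvd_mul (by norm_num)).1 hd).resolve_left ?_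
  have hi : subH.index = 3510 := by
    obtain ⟨S, -, -, -⟩ := exists_suborbitsH
    rw [S.index_eq, Nat.card_fin]
    rfl
  rw [hi]
  norm_num

theorem classify (α : MulAut Gp) : ∃ g : Gp, MulAut.conj g * α = 1 ∨ MulAut.conj g * α = sigma := by
  obtain ⟨p, hp⟩ := image_zee α
  obtain ⟨u, rfl⟩ := trans_pt p
  have h0 : Fixes (MulAut.conj u⁻¹ * α) [0] := fun y hy => by
    rw [List.mem_singleton.1 hy, let', Act.letters_of_lt (show 0 < ActH.act.k by decide +kernel)]
    show u⁻¹ * α zee * u⁻¹⁻¹ = zee
    rw [hp, trp_eq (g := u) rfl]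
    group
  obtain ⟨g1, h1⟩ := fixes_step (x := 6) (by decide) (by decide) (by decide) (by decide) trans0 h0
  obtain ⟨g2, h2⟩ := fixes_step (x := 1) (by decide) (by decide) (by decide) (by decide) trans1 h1
  obtain ⟨g3, h3⟩ := fixes_step (x := 2) (by decide) (by decide) (by decide) (by decide) trans2 h2
  obtain ⟨g4, h4⟩ := fixes_step (x := 5) (by decide) (by decide) (by decide) (by decide) trans3 h3
  obtain ⟨g5, h5⟩ := last_step (β := _) h4
  refine ⟨g5 * (g4 * (g3 * (g2 * (g1 * u⁻¹)))), ?_⟩
  simpa only [map_mul, mul_assoc] using h5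

theorem sigma_outer : sigma ∉ Cfsg.Inn Gp := by
  rintro ⟨g, hg⟩
  have hgx : ∀ x, x < 9 → g • gpt x = qpt x := fun x hx => trp_inj (by
    rw [← sigma_gen hx, ← hg, letters_trp x hx, MulAut.conj_apply, conj_trp])
  have hgk : g ∈ keepSub preF := fun y hy => by
    rw [hgx y ((by decide : ∀ z ∈ preF, z < 9) y hy)]
    exact Fin.ext (final_rows_ok.2.2.2.2.1 y hy)
  have hlen := final_rows_ok.2.2.2.2.2.2.1
  have hnd := final_rows_ok.2.2.2.2.2.2.2.1
  choose f hf hfc using fun i : Fin rowsP.length =>
    prod_spec _ (final_rows_ok.2.1 _ (List.getElem_mem i.2)).1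
  have htup : ∀ i : Fin rowsP.length, lastF.map (fun x => ((f i • gpt x : Pt) : ℕ)) = rowsP[i].2 := fun i => by
    simp only [hfc]
    exact (final_rows_ok.2.1 _ (List.getElem_mem i.2)).2
  let F : Fin rowsP.length → keepSub preF := fun i => ⟨f i, hf i⟩
  have hinj : Function.Injective F := fun i j e => by
    have e' : rowsP[i].2 = rowsP[j].2 := by rw [← htup i, ← htup j, show f i = f j from congrArg Subtype.val e]
    have := (List.Nodup.getElem_inj_iff hnd (i := i.1) (j := j.1) (hi := by simp) (hj := by simp)).1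
      (by simpa using e')
    exact Fin.ext this
  have : Finite Gp := Nat.finite_of_card_ne_zero (ne_of_eq_of_ne card_act (by norm_num))
  obtain ⟨i, hi⟩ := (hinj.bijective_of_nat_card_le (by rw [card_preF, Nat.card_fin, hlen])).2 ⟨g, hgk⟩
  refine final_rows_ok.2.2.2.2.2.2.2.2 (List.mem_map.2 ⟨rowsP[i], List.getElem_mem i.2, ?_⟩)
  rw [← htup i, show f i = g from congrArg Subtype.val hi]
  exact List.map_congr_left fun x hx =>
    congrArg Fin.val (hgx x ((by decide : ∀ z ∈ lastF, z < 9) x hx))

theorem card_out_pres : Nat.card (Cfsg.Out Gp) = 2 := by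
  refine (Nat.card_eq_two_iff' (1 : Cfsg.Out Gp)).2
    ⟨QuotientGroup.mk sigma, fun h => sigma_outer ((QuotientGroup.eq_one_iff sigma).1 h), fun q hq => ?_⟩
  induction q using QuotientGroup.induction_on with
  | H α =>
    obtain ⟨g, h⟩ := classify α
    have hg : (QuotientGroup.mk (MulAut.conj g) : Cfsg.Out Gp) = 1 :=
      (QuotientGroup.eq_one_iff _).2 ⟨g, rfl⟩
    have e : (QuotientGroup.mk (MulAut.conj g * α) : Cfsg.Out Gp) = QuotientGroup.mk α := by
      rw [QuotientGroup.mk_mul, hg, one_mul]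
    rcases h with h | h
    · rw [h] at e
      exact absurd e.symm hq
    · rw [← e, h]

theorem card_out : Nat.card (Cfsg.Out Cfsg.Spor.Fi22) = 2 := by
  obtain ⟨e, -⟩ := coxData.exists_equiv (k := ActH.act.k) rfl rels_eq
  let E : MulAut Gp ≃* MulAut Cfsg.Spor.Fi22 := MulAut.congr e
  have hE : (Cfsg.Inn Gp).map (E : MulAut Gp →* MulAut Cfsg.Spor.Fi22) = Cfsg.Inn Cfsg.Spor.Fi22 := by
    ext φ
    constructor
    · rintro ⟨_, ⟨g, rfl⟩, rfl⟩
      exact ⟨e g, MulEquiv.ext fun y => by simp [E, MulAut.congr]⟩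
    · rintro ⟨g, rfl⟩
      exact ⟨MulAut.conj (e.symm g), ⟨_, rfl⟩, MulEquiv.ext fun y => by simp [E, MulAut.congr]⟩
  rw [← card_out_pres]
  exact (Nat.card_congr (QuotientGroup.congr _ _ E hE).toEquiv).symm

end

end CfsgLib.Spor.Fi22Out
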